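/-
`SL_3(q)`, `q ∈ {2, 3, 4, 7, 16}`: explicit pairs of conjugate regular unipotents, with certificates.
-/
import Mathlib
import Cfsg.Agent.Lib.Generators.RegularPairThreeCert

set_option autoImplicit false
set_option linter.unusedSectionVars false
set_option maxRecDepth 4000

open Matrix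

namespace CfsgLib.Generators.RegularPairThree

/-- The field of order four, for computations. -/
structure F4 where
  c0 : ZMod 2
  c1 : ZMod 2
  deriving DecidableEq, Fintype

instance : Add F4 := ⟨fun a b => ⟨a.c0 + b.c0, a.c1 + b.c1⟩⟩
instance : Zero F4 := ⟨⟨0, 0⟩⟩
instance : One F4 := ⟨⟨1, 0⟩⟩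
instance : Mul F4 := ⟨fun a b =>
  ⟨a.c0 * b.c0 + a.c1 * b.c1, a.c0 * b.c1 + a.c1 * b.c0 + a.c1 * b.c1⟩⟩

/-- The field of order sixteen, for computations. -/
structure F16 where
  c0 : ZMod 2
  c1 : ZMod 2
  c2 : ZMod 2
  c3 : ZMod 2
  deriving DecidableEq, Fintype

instance : Add F16 := ⟨fun a b => ⟨a.c0 + b.c0, a.c1 + b.c1, a.c2 + b.c2, a.c3 + b.c3⟩⟩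
instance : Zero F16 := ⟨⟨0, 0, 0, 0⟩⟩
instance : One F16 := ⟨⟨1, 0, 0, 0⟩⟩
instance : Mul F16 := ⟨fun a b =>
  let d4 := a.c1 * b.c3 + a.c2 * b.c2 + a.c3 * b.c1
  let d5 := a.c2 * b.c3 + a.c3 * b.c2
  let d6 := a.c3 * b.c3
  ⟨a.c0 * b.c0 + d4,
    a.c0 * b.c1 + a.c1 * b.c0 + d4 + d5,
    a.c0 * b.c2 + a.c1 * b.c1 + a.c2 * b.c0 + d5 + d6,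
    a.c0 * b.c3 + a.c1 * b.c2 + a.c2 * b.c1 + a.c3 * b.c0 + d6⟩⟩

/-- The pair for the field of order 2. -/
def cert2 : Cert (ZMod 2) where
  char := 2
  g := ⟨0, 0, 1, 0, 1, 0, 1, 0, 0⟩
  v := ⟨1, 0, 0, 1, 1, 0, 0, 1, 1⟩
  uI := ⟨1, 1, 1, 0, 1, 1, 0, 0, 1⟩
  vI := ⟨1, 0, 0, 1, 1, 0, 1, 1, 1⟩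
  words := [
    [(0, ⟨1, 1, 0, 0, 1, 1, 0, 0, 1⟩)],
    [(3, ⟨1, 0, 0, 1, 1, 0, 1, 1, 1⟩),
     (2, ⟨1, 1, 1, 1, 0, 0, 1, 0, 1⟩),
     (1, ⟨0, 0, 1, 1, 0, 0, 1, 1, 1⟩),
     (2, ⟨0, 0, 1, 1, 1, 1, 1, 0, 1⟩),
     (1, ⟨0, 1, 1, 0, 0, 1, 1, 1, 1⟩),
     (1, ⟨1, 0, 1, 0, 1, 1, 0, 0, 1⟩)]]

/-- The pair for the field of order 3. -/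
def cert3 : Cert (ZMod 3) where
  char := 3
  g := ⟨0, 0, 1, 0, 2, 0, 1, 0, 0⟩
  v := ⟨1, 0, 0, 2, 1, 0, 0, 2, 1⟩
  uI := ⟨1, 2, 1, 0, 1, 2, 0, 0, 1⟩
  vI := ⟨1, 0, 0, 1, 1, 0, 1, 1, 1⟩
  words := [
    [(0, ⟨1, 1, 0, 0, 1, 1, 0, 0, 1⟩)],
    [(3, ⟨1, 0, 0, 1, 1, 0, 1, 1, 1⟩),
     (0, ⟨1, 1, 0, 1, 2, 1, 1, 2, 2⟩),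
     (1, ⟨0, 1, 0, 2, 1, 1, 2, 0, 2⟩),
     (2, ⟨0, 1, 2, 2, 2, 2, 2, 1, 1⟩),
     (1, ⟨2, 2, 2, 0, 0, 2, 1, 0, 1⟩),
     (0, ⟨2, 1, 1, 0, 0, 2, 1, 1, 1⟩),
     (1, ⟨1, 0, 1, 0, 1, 2, 0, 0, 1⟩)]]

/-- The pair for the field of order 4. -/
def cert4 : Cert F4 where
  char := 2
  g := ⟨⟨0, 0⟩, ⟨0, 1⟩, ⟨0, 0⟩, ⟨0, 0⟩, ⟨1, 0⟩, ⟨0, 1⟩, ⟨0, 1⟩, ⟨0, 0⟩, ⟨0, 0⟩⟩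
  v := ⟨⟨0, 1⟩, ⟨1, 0⟩, ⟨0, 0⟩, ⟨0, 1⟩, ⟨0, 1⟩, ⟨0, 0⟩, ⟨1, 0⟩, ⟨0, 0⟩, ⟨1, 0⟩⟩
  uI := ⟨⟨1, 0⟩, ⟨1, 0⟩, ⟨1, 0⟩, ⟨0, 0⟩, ⟨1, 0⟩, ⟨1, 0⟩, ⟨0, 0⟩, ⟨0, 0⟩, ⟨1, 0⟩⟩
  vI := ⟨⟨0, 1⟩, ⟨1, 0⟩, ⟨0, 0⟩, ⟨0, 1⟩, ⟨0, 1⟩, ⟨0, 0⟩, ⟨0, 1⟩, ⟨1, 0⟩, ⟨1, 0⟩⟩
  words := [
    [(0, ⟨⟨1, 0⟩, ⟨1, 0⟩, ⟨0, 0⟩, ⟨0, 0⟩, ⟨1, 0⟩, ⟨1, 0⟩, ⟨0, 0⟩, ⟨0, 0⟩, ⟨1, 0⟩⟩)],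
    [(3, ⟨⟨0, 1⟩, ⟨1, 0⟩, ⟨0, 0⟩, ⟨0, 1⟩, ⟨0, 1⟩, ⟨0, 0⟩, ⟨0, 1⟩, ⟨1, 0⟩, ⟨1, 0⟩⟩),
     (0, ⟨⟨0, 1⟩, ⟨1, 1⟩, ⟨1, 0⟩, ⟨0, 1⟩, ⟨0, 0⟩, ⟨0, 1⟩, ⟨0, 1⟩, ⟨1, 1⟩, ⟨0, 0⟩⟩),
     (3, ⟨⟨0, 0⟩, ⟨0, 1⟩, ⟨1, 0⟩, ⟨0, 0⟩, ⟨0, 0⟩, ⟨0, 1⟩, ⟨0, 1⟩, ⟨1, 1⟩, ⟨0, 0⟩⟩),
     (3, ⟨⟨1, 0⟩, ⟨0, 1⟩, ⟨1, 0⟩, ⟨1, 1⟩, ⟨0, 1⟩, ⟨0, 1⟩, ⟨0, 1⟩, ⟨1, 1⟩, ⟨0, 0⟩⟩),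
     (2, ⟨⟨1, 0⟩, ⟨1, 1⟩, ⟨0, 1⟩, ⟨1, 1⟩, ⟨1, 0⟩, ⟨1, 1⟩, ⟨0, 1⟩, ⟨1, 0⟩, ⟨1, 0⟩⟩),
     (1, ⟨⟨1, 0⟩, ⟨0, 0⟩, ⟨0, 1⟩, ⟨0, 0⟩, ⟨1, 0⟩, ⟨1, 1⟩, ⟨0, 0⟩, ⟨0, 0⟩, ⟨1, 0⟩⟩)],
    [(1, ⟨⟨0, 1⟩, ⟨1, 0⟩, ⟨0, 0⟩, ⟨0, 1⟩, ⟨0, 1⟩, ⟨0, 0⟩, ⟨1, 0⟩, ⟨0, 0⟩, ⟨1, 0⟩⟩),
     (2, ⟨⟨0, 1⟩, ⟨1, 1⟩, ⟨1, 1⟩, ⟨0, 1⟩, ⟨0, 0⟩, ⟨0, 0⟩, ⟨1, 0⟩, ⟨1, 0⟩, ⟨0, 0⟩⟩),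
     (3, ⟨⟨1, 1⟩, ⟨0, 0⟩, ⟨1, 1⟩, ⟨1, 1⟩, ⟨0, 1⟩, ⟨0, 0⟩, ⟨0, 0⟩, ⟨1, 1⟩, ⟨0, 0⟩⟩),
     (3, ⟨⟨0, 0⟩, ⟨0, 0⟩, ⟨1, 1⟩, ⟨0, 1⟩, ⟨0, 0⟩, ⟨0, 0⟩, ⟨1, 0⟩, ⟨1, 0⟩, ⟨0, 0⟩⟩),
     (0, ⟨⟨0, 0⟩, ⟨0, 0⟩, ⟨1, 1⟩, ⟨0, 1⟩, ⟨0, 1⟩, ⟨0, 0⟩, ⟨1, 0⟩, ⟨0, 0⟩, ⟨1, 0⟩⟩),
     (3, ⟨⟨1, 0⟩, ⟨1, 1⟩, ⟨1, 1⟩, ⟨0, 0⟩, ⟨1, 0⟩, ⟨0, 0⟩, ⟨0, 0⟩, ⟨0, 0⟩, ⟨1, 0⟩⟩)],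
    [(3, ⟨⟨0, 1⟩, ⟨1, 0⟩, ⟨0, 0⟩, ⟨0, 1⟩, ⟨0, 1⟩, ⟨0, 0⟩, ⟨0, 1⟩, ⟨1, 0⟩, ⟨1, 0⟩⟩),
     (0, ⟨⟨0, 1⟩, ⟨1, 1⟩, ⟨1, 0⟩, ⟨0, 1⟩, ⟨0, 0⟩, ⟨0, 1⟩, ⟨0, 1⟩, ⟨1, 1⟩, ⟨0, 0⟩⟩),
     (3, ⟨⟨0, 0⟩, ⟨0, 1⟩, ⟨1, 0⟩, ⟨0, 0⟩, ⟨0, 0⟩, ⟨0, 1⟩, ⟨0, 1⟩, ⟨1, 1⟩, ⟨0, 0⟩⟩),
     (2, ⟨⟨0, 0⟩, ⟨0, 1⟩, ⟨1, 1⟩, ⟨0, 0⟩, ⟨0, 0⟩, ⟨0, 1⟩, ⟨0, 1⟩, ⟨1, 0⟩, ⟨1, 0⟩⟩),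
     (1, ⟨⟨0, 0⟩, ⟨1, 1⟩, ⟨1, 1⟩, ⟨0, 1⟩, ⟨0, 0⟩, ⟨0, 1⟩, ⟨0, 0⟩, ⟨0, 0⟩, ⟨1, 0⟩⟩),
     (2, ⟨⟨0, 0⟩, ⟨1, 1⟩, ⟨0, 0⟩, ⟨0, 1⟩, ⟨0, 1⟩, ⟨0, 0⟩, ⟨0, 0⟩, ⟨0, 0⟩, ⟨1, 0⟩⟩),
     (2, ⟨⟨0, 0⟩, ⟨1, 1⟩, ⟨1, 1⟩, ⟨0, 1⟩, ⟨0, 0⟩, ⟨0, 0⟩, ⟨0, 0⟩, ⟨0, 0⟩, ⟨1, 0⟩⟩),
     (3, ⟨⟨0, 0⟩, ⟨0, 1⟩, ⟨1, 1⟩, ⟨1, 1⟩, ⟨0, 1⟩, ⟨0, 0⟩, ⟨0, 1⟩, ⟨1, 0⟩, ⟨1, 0⟩⟩),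
     (0, ⟨⟨0, 0⟩, ⟨0, 1⟩, ⟨1, 0⟩, ⟨1, 1⟩, ⟨1, 0⟩, ⟨0, 1⟩, ⟨0, 1⟩, ⟨1, 1⟩, ⟨0, 0⟩⟩),
     (1, ⟨⟨0, 1⟩, ⟨1, 1⟩, ⟨1, 0⟩, ⟨1, 0⟩, ⟨1, 0⟩, ⟨0, 1⟩, ⟨0, 1⟩, ⟨1, 1⟩, ⟨0, 0⟩⟩),
     (2, ⟨⟨0, 1⟩, ⟨1, 0⟩, ⟨0, 0⟩, ⟨1, 0⟩, ⟨0, 0⟩, ⟨0, 1⟩, ⟨0, 1⟩, ⟨1, 0⟩, ⟨1, 0⟩⟩),
     (1, ⟨⟨1, 0⟩, ⟨0, 0⟩, ⟨0, 0⟩, ⟨0, 0⟩, ⟨1, 0⟩, ⟨0, 1⟩, ⟨0, 0⟩, ⟨0, 0⟩, ⟨1, 0⟩⟩)]]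

/-- The pair for the field of order 7. -/
def cert7 : Cert (ZMod 7) where
  char := 7
  g := ⟨0, 4, 0, 3, 0, 5, 6, 0, 0⟩
  v := ⟨1, 5, 1, 6, 1, 0, 5, 0, 1⟩
  uI := ⟨1, 6, 1, 0, 1, 6, 0, 0, 1⟩
  vI := ⟨1, 2, 6, 1, 3, 6, 2, 4, 6⟩
  words := [
    [(0, ⟨1, 1, 0, 0, 1, 1, 0, 0, 1⟩)],
    [(1, ⟨1, 5, 1, 6, 1, 0, 5, 0, 1⟩),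
     (2, ⟨1, 4, 4, 6, 2, 5, 5, 2, 6⟩),
     (3, ⟨6, 2, 5, 4, 3, 1, 5, 5, 1⟩),
     (2, ⟨6, 3, 2, 4, 6, 2, 5, 0, 1⟩),
     (2, ⟨6, 4, 5, 4, 2, 0, 5, 2, 6⟩),
     (3, ⟨6, 2, 6, 6, 0, 1, 5, 5, 1⟩),
     (2, ⟨6, 3, 3, 6, 1, 0, 5, 0, 1⟩),
     (3, ⟨1, 5, 2, 0, 1, 0, 0, 0, 1⟩)]]

/-- The pair for the field of order 16. -/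
def cert16 : Cert F16 where
  char := 2
  g := ⟨⟨0, 0, 0, 0⟩, ⟨1, 1, 0, 0⟩, ⟨1, 0, 0, 1⟩, ⟨0, 1, 1, 0⟩, ⟨1, 0, 0, 1⟩, ⟨0, 0, 0, 0⟩, ⟨0, 0, 1, 0⟩, ⟨0, 0, 0, 0⟩, ⟨0, 0, 0, 0⟩⟩
  v := ⟨⟨1, 1, 1, 0⟩, ⟨1, 1, 1, 0⟩, ⟨1, 0, 1, 1⟩, ⟨1, 0, 0, 0⟩, ⟨1, 1, 0, 1⟩, ⟨1, 1, 1, 1⟩, ⟨0, 0, 0, 0⟩, ⟨0, 0, 0, 1⟩, ⟨1, 0, 1, 1⟩⟩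
  uI := ⟨⟨1, 0, 0, 0⟩, ⟨1, 0, 0, 0⟩, ⟨1, 0, 0, 0⟩, ⟨0, 0, 0, 0⟩, ⟨1, 0, 0, 0⟩, ⟨1, 0, 0, 0⟩, ⟨0, 0, 0, 0⟩, ⟨0, 0, 0, 0⟩, ⟨1, 0, 0, 0⟩⟩
  vI := ⟨⟨1, 1, 1, 0⟩, ⟨1, 1, 1, 0⟩, ⟨1, 0, 1, 1⟩, ⟨1, 0, 1, 1⟩, ⟨1, 0, 1, 0⟩, ⟨0, 1, 1, 0⟩, ⟨0, 0, 0, 1⟩, ⟨1, 0, 1, 1⟩, ⟨1, 1, 0, 0⟩⟩
  words := [
    [(0, ⟨⟨1, 0, 0, 0⟩, ⟨1, 0, 0, 0⟩, ⟨0, 0, 0, 0⟩, ⟨0, 0, 0, 0⟩, ⟨1, 0, 0, 0⟩, ⟨1, 0, 0, 0⟩, ⟨0, 0, 0, 0⟩, ⟨0, 0, 0, 0⟩, ⟨1, 0, 0, 0⟩⟩)],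
    [(3, ⟨⟨1, 1, 1, 0⟩, ⟨1, 1, 1, 0⟩, ⟨1, 0, 1, 1⟩, ⟨1, 0, 1, 1⟩, ⟨1, 0, 1, 0⟩, ⟨0, 1, 1, 0⟩, ⟨0, 0, 0, 1⟩, ⟨1, 0, 1, 1⟩, ⟨1, 1, 0, 0⟩⟩),
     (0, ⟨⟨1, 1, 1, 0⟩, ⟨0, 0, 0, 0⟩, ⟨0, 1, 0, 1⟩, ⟨1, 0, 1, 1⟩, ⟨0, 0, 0, 1⟩, ⟨1, 1, 0, 0⟩, ⟨0, 0, 0, 1⟩, ⟨1, 0, 1, 0⟩, ⟨0, 1, 1, 1⟩⟩),
     (3, ⟨⟨1, 0, 0, 1⟩, ⟨1, 0, 1, 1⟩, ⟨0, 0, 0, 1⟩, ⟨0, 0, 1, 1⟩, ⟨1, 1, 1, 1⟩, ⟨0, 1, 1, 1⟩, ⟨0, 0, 0, 1⟩, ⟨1, 0, 1, 0⟩, ⟨0, 1, 1, 1⟩⟩),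
     (3, ⟨⟨0, 0, 0, 1⟩, ⟨0, 0, 1, 0⟩, ⟨0, 0, 1, 1⟩, ⟨0, 0, 1, 1⟩, ⟨0, 1, 1, 1⟩, ⟨0, 1, 1, 0⟩, ⟨0, 0, 0, 1⟩, ⟨1, 0, 1, 0⟩, ⟨0, 1, 1, 1⟩⟩),
     (2, ⟨⟨0, 0, 0, 1⟩, ⟨0, 0, 1, 1⟩, ⟨0, 0, 0, 0⟩, ⟨0, 0, 1, 1⟩, ⟨0, 1, 0, 0⟩, ⟨0, 0, 1, 0⟩, ⟨0, 0, 0, 1⟩, ⟨1, 0, 1, 1⟩, ⟨1, 1, 0, 0⟩⟩),
     (1, ⟨⟨1, 0, 0, 0⟩, ⟨0, 0, 0, 0⟩, ⟨0, 1, 0, 1⟩, ⟨0, 0, 0, 0⟩, ⟨1, 0, 0, 0⟩, ⟨1, 1, 1, 1⟩, ⟨0, 0, 0, 0⟩, ⟨0, 0, 0, 0⟩, ⟨1, 0, 0, 0⟩⟩)],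
    [(3, ⟨⟨1, 1, 1, 0⟩, ⟨1, 1, 1, 0⟩, ⟨1, 0, 1, 1⟩, ⟨1, 0, 1, 1⟩, ⟨1, 0, 1, 0⟩, ⟨0, 1, 1, 0⟩, ⟨0, 0, 0, 1⟩, ⟨1, 0, 1, 1⟩, ⟨1, 1, 0, 0⟩⟩),
     (2, ⟨⟨1, 1, 1, 0⟩, ⟨0, 0, 0, 0⟩, ⟨1, 0, 1, 1⟩, ⟨1, 0, 1, 1⟩, ⟨0, 0, 0, 1⟩, ⟨0, 1, 1, 1⟩, ⟨0, 0, 0, 1⟩, ⟨1, 0, 1, 0⟩, ⟨0, 1, 1, 0⟩⟩),
     (2, ⟨⟨1, 1, 1, 0⟩, ⟨1, 1, 1, 0⟩, ⟨0, 1, 0, 1⟩, ⟨1, 0, 1, 1⟩, ⟨1, 0, 1, 0⟩, ⟨1, 1, 0, 1⟩, ⟨0, 0, 0, 1⟩, ⟨1, 0, 1, 1⟩, ⟨1, 1, 0, 1⟩⟩),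
     (1, ⟨⟨1, 0, 0, 0⟩, ⟨1, 0, 1, 1⟩, ⟨1, 0, 1, 0⟩, ⟨0, 0, 0, 0⟩, ⟨1, 1, 0, 0⟩, ⟨0, 1, 1, 1⟩, ⟨0, 0, 0, 0⟩, ⟨0, 0, 1, 1⟩, ⟨1, 1, 0, 0⟩⟩),
     (2, ⟨⟨1, 0, 0, 0⟩, ⟨0, 0, 1, 1⟩, ⟨1, 0, 0, 1⟩, ⟨0, 0, 0, 0⟩, ⟨1, 1, 0, 0⟩, ⟨1, 0, 1, 1⟩, ⟨0, 0, 0, 0⟩, ⟨0, 0, 1, 1⟩, ⟨1, 1, 1, 1⟩⟩),
     (2, ⟨⟨1, 0, 0, 0⟩, ⟨1, 0, 1, 1⟩, ⟨0, 0, 1, 0⟩, ⟨0, 0, 0, 0⟩, ⟨1, 1, 0, 0⟩, ⟨0, 1, 1, 1⟩, ⟨0, 0, 0, 0⟩, ⟨0, 0, 1, 1⟩, ⟨1, 1, 0, 0⟩⟩),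
     (3, ⟨⟨1, 1, 1, 1⟩, ⟨0, 1, 0, 1⟩, ⟨1, 0, 0, 1⟩, ⟨1, 0, 1, 1⟩, ⟨1, 0, 1, 0⟩, ⟨1, 1, 0, 1⟩, ⟨0, 0, 0, 1⟩, ⟨1, 0, 1, 1⟩, ⟨1, 1, 0, 1⟩⟩),
     (0, ⟨⟨1, 1, 1, 1⟩, ⟨1, 0, 1, 0⟩, ⟨1, 1, 0, 0⟩, ⟨1, 0, 1, 1⟩, ⟨0, 0, 0, 1⟩, ⟨0, 1, 1, 1⟩, ⟨0, 0, 0, 1⟩, ⟨1, 0, 1, 0⟩, ⟨0, 1, 1, 0⟩⟩),
     (0, ⟨⟨1, 1, 1, 1⟩, ⟨0, 1, 0, 1⟩, ⟨0, 1, 1, 0⟩, ⟨1, 0, 1, 1⟩, ⟨1, 0, 1, 0⟩, ⟨0, 1, 1, 0⟩, ⟨0, 0, 0, 1⟩, ⟨1, 0, 1, 1⟩, ⟨1, 1, 0, 0⟩⟩),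
     (1, ⟨⟨1, 0, 0, 0⟩, ⟨0, 0, 1, 1⟩, ⟨1, 1, 0, 0⟩, ⟨0, 0, 0, 0⟩, ⟨1, 0, 0, 0⟩, ⟨0, 0, 0, 0⟩, ⟨0, 0, 0, 0⟩, ⟨0, 0, 0, 0⟩, ⟨1, 0, 0, 0⟩⟩)],
    [(3, ⟨⟨1, 1, 1, 0⟩, ⟨1, 1, 1, 0⟩, ⟨1, 0, 1, 1⟩, ⟨1, 0, 1, 1⟩, ⟨1, 0, 1, 0⟩, ⟨0, 1, 1, 0⟩, ⟨0, 0, 0, 1⟩, ⟨1, 0, 1, 1⟩, ⟨1, 1, 0, 0⟩⟩),
     (2, ⟨⟨1, 1, 1, 0⟩, ⟨0, 0, 0, 0⟩, ⟨1, 0, 1, 1⟩, ⟨1, 0, 1, 1⟩, ⟨0, 0, 0, 1⟩, ⟨0, 1, 1, 1⟩, ⟨0, 0, 0, 1⟩, ⟨1, 0, 1, 0⟩, ⟨0, 1, 1, 0⟩⟩),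
     (2, ⟨⟨1, 1, 1, 0⟩, ⟨1, 1, 1, 0⟩, ⟨0, 1, 0, 1⟩, ⟨1, 0, 1, 1⟩, ⟨1, 0, 1, 0⟩, ⟨1, 1, 0, 1⟩, ⟨0, 0, 0, 1⟩, ⟨1, 0, 1, 1⟩, ⟨1, 1, 0, 1⟩⟩),
     (3, ⟨⟨0, 0, 1, 1⟩, ⟨1, 0, 1, 0⟩, ⟨1, 0, 0, 1⟩, ⟨0, 1, 1, 1⟩, ⟨1, 0, 0, 0⟩, ⟨1, 0, 1, 1⟩, ⟨0, 0, 1, 0⟩, ⟨1, 1, 1, 0⟩, ⟨0, 0, 1, 0⟩⟩),
     (0, ⟨⟨0, 0, 1, 1⟩, ⟨1, 0, 0, 1⟩, ⟨0, 0, 1, 1⟩, ⟨0, 1, 1, 1⟩, ⟨1, 1, 1, 1⟩, ⟨0, 0, 1, 1⟩, ⟨0, 0, 1, 0⟩, ⟨1, 1, 0, 0⟩, ⟨1, 1, 0, 0⟩⟩),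
     (1, ⟨⟨1, 1, 0, 1⟩, ⟨0, 0, 1, 0⟩, ⟨0, 1, 1, 1⟩, ⟨1, 1, 0, 0⟩, ⟨1, 0, 1, 0⟩, ⟨1, 1, 0, 0⟩, ⟨0, 0, 1, 1⟩, ⟨0, 1, 0, 1⟩, ⟨1, 1, 1, 0⟩⟩),
     (1, ⟨⟨0, 0, 0, 0⟩, ⟨1, 1, 1, 0⟩, ⟨1, 0, 1, 0⟩, ⟨0, 0, 1, 1⟩, ⟨1, 1, 0, 0⟩, ⟨0, 1, 1, 0⟩, ⟨0, 0, 0, 1⟩, ⟨1, 0, 1, 1⟩, ⟨0, 1, 0, 1⟩⟩),
     (2, ⟨⟨0, 0, 0, 0⟩, ⟨1, 1, 1, 0⟩, ⟨0, 1, 0, 0⟩, ⟨0, 0, 1, 1⟩, ⟨1, 1, 1, 1⟩, ⟨1, 0, 0, 1⟩, ⟨0, 0, 0, 1⟩, ⟨1, 0, 1, 0⟩, ⟨1, 1, 1, 1⟩⟩),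
     (1, ⟨⟨1, 1, 1, 0⟩, ⟨1, 1, 1, 0⟩, ⟨0, 1, 0, 0⟩, ⟨1, 0, 1, 1⟩, ⟨1, 0, 1, 0⟩, ⟨0, 1, 1, 0⟩, ⟨0, 0, 0, 1⟩, ⟨1, 0, 1, 1⟩, ⟨1, 1, 0, 0⟩⟩),
     (1, ⟨⟨1, 0, 0, 0⟩, ⟨1, 0, 0, 0⟩, ⟨1, 1, 1, 0⟩, ⟨0, 0, 0, 0⟩, ⟨1, 0, 0, 0⟩, ⟨0, 0, 0, 0⟩, ⟨0, 0, 0, 0⟩, ⟨0, 0, 0, 0⟩, ⟨1, 0, 0, 0⟩⟩)],
    [(1, ⟨⟨1, 1, 1, 0⟩, ⟨1, 1, 1, 0⟩, ⟨1, 0, 1, 1⟩, ⟨1, 0, 0, 0⟩, ⟨1, 1, 0, 1⟩, ⟨1, 1, 1, 1⟩, ⟨0, 0, 0, 0⟩, ⟨0, 0, 0, 1⟩, ⟨1, 0, 1, 1⟩⟩),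
     (2, ⟨⟨1, 1, 1, 0⟩, ⟨0, 0, 0, 0⟩, ⟨1, 0, 1, 1⟩, ⟨1, 0, 0, 0⟩, ⟨0, 1, 0, 1⟩, ⟨1, 0, 1, 0⟩, ⟨0, 0, 0, 0⟩, ⟨0, 0, 0, 1⟩, ⟨1, 0, 1, 0⟩⟩),
     (2, ⟨⟨1, 1, 1, 0⟩, ⟨1, 1, 1, 0⟩, ⟨0, 1, 0, 1⟩, ⟨1, 0, 0, 0⟩, ⟨1, 1, 0, 1⟩, ⟨0, 1, 1, 1⟩, ⟨0, 0, 0, 0⟩, ⟨0, 0, 0, 1⟩, ⟨1, 0, 1, 1⟩⟩),
     (3, ⟨⟨0, 0, 1, 1⟩, ⟨1, 0, 1, 0⟩, ⟨1, 0, 0, 1⟩, ⟨0, 0, 0, 1⟩, ⟨0, 0, 1, 1⟩, ⟨1, 1, 0, 0⟩, ⟨0, 0, 0, 0⟩, ⟨0, 0, 0, 0⟩, ⟨1, 0, 0, 0⟩⟩),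
     (2, ⟨⟨0, 0, 1, 1⟩, ⟨1, 0, 0, 1⟩, ⟨0, 0, 0, 0⟩, ⟨0, 0, 0, 1⟩, ⟨0, 0, 1, 0⟩, ⟨1, 1, 1, 0⟩, ⟨0, 0, 0, 0⟩, ⟨0, 0, 0, 0⟩, ⟨1, 0, 0, 0⟩⟩),
     (2, ⟨⟨0, 0, 1, 1⟩, ⟨1, 0, 1, 0⟩, ⟨1, 0, 1, 0⟩, ⟨0, 0, 0, 1⟩, ⟨0, 0, 1, 1⟩, ⟨1, 1, 0, 1⟩, ⟨0, 0, 0, 0⟩, ⟨0, 0, 0, 0⟩, ⟨1, 0, 0, 0⟩⟩),
     (1, ⟨⟨1, 1, 1, 0⟩, ⟨1, 0, 1, 1⟩, ⟨1, 0, 0, 1⟩, ⟨1, 0, 0, 0⟩, ⟨1, 1, 1, 0⟩, ⟨0, 0, 1, 1⟩, ⟨0, 0, 0, 0⟩, ⟨0, 0, 0, 1⟩, ⟨1, 0, 1, 1⟩⟩),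
     (0, ⟨⟨1, 1, 1, 0⟩, ⟨0, 1, 0, 1⟩, ⟨0, 0, 1, 0⟩, ⟨1, 0, 0, 0⟩, ⟨0, 1, 1, 0⟩, ⟨1, 1, 0, 1⟩, ⟨0, 0, 0, 0⟩, ⟨0, 0, 0, 1⟩, ⟨1, 0, 1, 0⟩⟩),
     (0, ⟨⟨1, 1, 1, 0⟩, ⟨1, 0, 1, 1⟩, ⟨0, 1, 1, 1⟩, ⟨1, 0, 0, 0⟩, ⟨1, 1, 1, 0⟩, ⟨1, 0, 1, 1⟩, ⟨0, 0, 0, 0⟩, ⟨0, 0, 0, 1⟩, ⟨1, 0, 1, 1⟩⟩),
     (3, ⟨⟨1, 0, 0, 0⟩, ⟨0, 0, 0, 0⟩, ⟨0, 0, 1, 1⟩, ⟨0, 0, 0, 0⟩, ⟨1, 0, 0, 0⟩, ⟨0, 0, 0, 1⟩, ⟨0, 0, 0, 0⟩, ⟨0, 0, 0, 0⟩, ⟨1, 0, 0, 0⟩⟩)],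
    [(3, ⟨⟨1, 1, 1, 0⟩, ⟨1, 1, 1, 0⟩, ⟨1, 0, 1, 1⟩, ⟨1, 0, 1, 1⟩, ⟨1, 0, 1, 0⟩, ⟨0, 1, 1, 0⟩, ⟨0, 0, 0, 1⟩, ⟨1, 0, 1, 1⟩, ⟨1, 1, 0, 0⟩⟩),
     (3, ⟨⟨1, 0, 0, 0⟩, ⟨0, 0, 0, 0⟩, ⟨0, 0, 0, 0⟩, ⟨0, 0, 1, 1⟩, ⟨1, 1, 1, 1⟩, ⟨1, 0, 0, 1⟩, ⟨0, 0, 0, 1⟩, ⟨1, 0, 1, 0⟩, ⟨1, 1, 1, 1⟩⟩),
     (2, ⟨⟨1, 0, 0, 0⟩, ⟨1, 0, 0, 0⟩, ⟨1, 0, 0, 0⟩, ⟨0, 0, 1, 1⟩, ⟨1, 1, 0, 0⟩, ⟨0, 1, 0, 1⟩, ⟨0, 0, 0, 1⟩, ⟨1, 0, 1, 1⟩, ⟨0, 1, 0, 0⟩⟩),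
     (2, ⟨⟨1, 0, 0, 0⟩, ⟨0, 0, 0, 0⟩, ⟨1, 0, 0, 0⟩, ⟨0, 0, 1, 1⟩, ⟨1, 1, 1, 1⟩, ⟨1, 0, 1, 0⟩, ⟨0, 0, 0, 1⟩, ⟨1, 0, 1, 0⟩, ⟨1, 1, 1, 0⟩⟩),
     (3, ⟨⟨1, 1, 1, 1⟩, ⟨0, 1, 0, 1⟩, ⟨0, 1, 1, 1⟩, ⟨1, 1, 0, 1⟩, ⟨0, 0, 0, 1⟩, ⟨0, 0, 0, 1⟩, ⟨0, 0, 1, 1⟩, ⟨0, 1, 0, 1⟩, ⟨0, 1, 1, 0⟩⟩),
     (0, ⟨⟨1, 1, 1, 1⟩, ⟨1, 0, 1, 0⟩, ⟨0, 0, 1, 0⟩, ⟨1, 1, 0, 1⟩, ⟨1, 1, 0, 0⟩, ⟨0, 0, 0, 0⟩, ⟨0, 0, 1, 1⟩, ⟨0, 1, 1, 0⟩, ⟨0, 0, 1, 1⟩⟩),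
     (1, ⟨⟨0, 1, 1, 1⟩, ⟨0, 0, 1, 1⟩, ⟨0, 0, 0, 0⟩, ⟨1, 1, 1, 0⟩, ⟨0, 1, 0, 1⟩, ⟨0, 0, 1, 0⟩, ⟨0, 0, 1, 0⟩, ⟨1, 1, 1, 0⟩, ⟨0, 0, 1, 0⟩⟩),
     (1, ⟨⟨0, 0, 0, 0⟩, ⟨1, 0, 0, 0⟩, ⟨0, 1, 0, 0⟩, ⟨0, 0, 1, 1⟩, ⟨0, 1, 0, 0⟩, ⟨0, 0, 0, 1⟩, ⟨0, 0, 0, 1⟩, ⟨1, 0, 1, 1⟩, ⟨1, 1, 0, 1⟩⟩),
     (0, ⟨⟨0, 0, 0, 0⟩, ⟨1, 0, 0, 0⟩, ⟨1, 1, 0, 0⟩, ⟨0, 0, 1, 1⟩, ⟨0, 1, 1, 1⟩, ⟨0, 1, 0, 1⟩, ⟨0, 0, 0, 1⟩, ⟨1, 0, 1, 0⟩, ⟨0, 1, 1, 0⟩⟩),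
     (0, ⟨⟨0, 0, 0, 0⟩, ⟨1, 0, 0, 0⟩, ⟨0, 1, 0, 0⟩, ⟨0, 0, 1, 1⟩, ⟨0, 1, 0, 0⟩, ⟨0, 0, 1, 0⟩, ⟨0, 0, 0, 1⟩, ⟨1, 0, 1, 1⟩, ⟨1, 1, 0, 0⟩⟩),
     (1, ⟨⟨1, 0, 0, 0⟩, ⟨0, 0, 0, 1⟩, ⟨0, 1, 1, 0⟩, ⟨0, 0, 0, 0⟩, ⟨1, 0, 0, 0⟩, ⟨1, 1, 1, 1⟩, ⟨0, 0, 0, 0⟩, ⟨0, 0, 0, 0⟩, ⟨1, 0, 0, 0⟩⟩)],
    [(3, ⟨⟨1, 1, 1, 0⟩, ⟨1, 1, 1, 0⟩, ⟨1, 0, 1, 1⟩, ⟨1, 0, 1, 1⟩, ⟨1, 0, 1, 0⟩, ⟨0, 1, 1, 0⟩, ⟨0, 0, 0, 1⟩, ⟨1, 0, 1, 1⟩, ⟨1, 1, 0, 0⟩⟩),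
     (2, ⟨⟨1, 1, 1, 0⟩, ⟨0, 0, 0, 0⟩, ⟨1, 0, 1, 1⟩, ⟨1, 0, 1, 1⟩, ⟨0, 0, 0, 1⟩, ⟨0, 1, 1, 1⟩, ⟨0, 0, 0, 1⟩, ⟨1, 0, 1, 0⟩, ⟨0, 1, 1, 0⟩⟩),
     (3, ⟨⟨0, 0, 1, 0⟩, ⟨0, 0, 0, 1⟩, ⟨1, 0, 0, 0⟩, ⟨0, 1, 1, 1⟩, ⟨1, 0, 0, 0⟩, ⟨0, 1, 0, 1⟩, ⟨0, 0, 1, 0⟩, ⟨1, 1, 1, 0⟩, ⟨1, 0, 1, 0⟩⟩),
     (3, ⟨⟨1, 0, 1, 0⟩, ⟨0, 0, 1, 1⟩, ⟨1, 1, 1, 0⟩, ⟨0, 1, 1, 1⟩, ⟨0, 1, 0, 0⟩, ⟨1, 0, 0, 0⟩, ⟨0, 0, 1, 0⟩, ⟨1, 1, 0, 1⟩, ⟨1, 1, 1, 1⟩⟩),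
     (0, ⟨⟨1, 0, 1, 0⟩, ⟨1, 0, 0, 1⟩, ⟨1, 1, 0, 1⟩, ⟨0, 1, 1, 1⟩, ⟨0, 0, 1, 1⟩, ⟨1, 1, 0, 0⟩, ⟨0, 0, 1, 0⟩, ⟨1, 1, 1, 1⟩, ⟨0, 0, 1, 0⟩⟩),
     (1, ⟨⟨1, 0, 0, 0⟩, ⟨1, 1, 0, 0⟩, ⟨0, 0, 1, 0⟩, ⟨0, 0, 0, 0⟩, ⟨0, 1, 0, 1⟩, ⟨0, 1, 1, 0⟩, ⟨0, 0, 0, 0⟩, ⟨0, 1, 0, 1⟩, ⟨0, 1, 0, 1⟩⟩),
     (2, ⟨⟨1, 0, 0, 0⟩, ⟨0, 1, 0, 0⟩, ⟨0, 1, 1, 0⟩, ⟨0, 0, 0, 0⟩, ⟨0, 1, 0, 1⟩, ⟨0, 0, 1, 1⟩, ⟨0, 0, 0, 0⟩, ⟨0, 1, 0, 1⟩, ⟨0, 0, 0, 0⟩⟩),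
     (2, ⟨⟨1, 0, 0, 0⟩, ⟨1, 1, 0, 0⟩, ⟨1, 0, 1, 0⟩, ⟨0, 0, 0, 0⟩, ⟨0, 1, 0, 1⟩, ⟨0, 1, 1, 0⟩, ⟨0, 0, 0, 0⟩, ⟨0, 1, 0, 1⟩, ⟨0, 1, 0, 1⟩⟩),
     (3, ⟨⟨1, 0, 1, 1⟩, ⟨0, 0, 1, 0⟩, ⟨0, 0, 0, 1⟩, ⟨0, 1, 1, 1⟩, ⟨0, 0, 1, 1⟩, ⟨1, 1, 0, 0⟩, ⟨0, 0, 1, 0⟩, ⟨1, 1, 1, 1⟩, ⟨0, 0, 1, 0⟩⟩),
     (2, ⟨⟨1, 0, 1, 1⟩, ⟨1, 0, 0, 1⟩, ⟨1, 0, 0, 0⟩, ⟨0, 1, 1, 1⟩, ⟨0, 1, 0, 0⟩, ⟨1, 0, 0, 0⟩, ⟨0, 0, 1, 0⟩, ⟨1, 1, 0, 1⟩, ⟨1, 1, 1, 1⟩⟩),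
     (1, ⟨⟨0, 0, 1, 1⟩, ⟨1, 0, 0, 0⟩, ⟨1, 0, 1, 1⟩, ⟨0, 1, 1, 1⟩, ⟨1, 0, 0, 0⟩, ⟨0, 1, 0, 1⟩, ⟨0, 0, 1, 0⟩, ⟨1, 1, 1, 0⟩, ⟨1, 0, 1, 0⟩⟩),
     (1, ⟨⟨1, 1, 0, 0⟩, ⟨1, 1, 0, 1⟩, ⟨0, 1, 0, 0⟩, ⟨1, 0, 1, 1⟩, ⟨0, 0, 0, 1⟩, ⟨0, 1, 1, 1⟩, ⟨0, 0, 0, 1⟩, ⟨1, 0, 1, 0⟩, ⟨0, 1, 1, 0⟩⟩),
     (0, ⟨⟨1, 1, 0, 0⟩, ⟨0, 0, 0, 1⟩, ⟨1, 0, 0, 1⟩, ⟨1, 0, 1, 1⟩, ⟨1, 0, 1, 0⟩, ⟨0, 1, 1, 0⟩, ⟨0, 0, 0, 1⟩, ⟨1, 0, 1, 1⟩, ⟨1, 1, 0, 0⟩⟩),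
     (1, ⟨⟨1, 0, 0, 0⟩, ⟨0, 1, 0, 1⟩, ⟨0, 1, 0, 1⟩, ⟨0, 0, 0, 0⟩, ⟨1, 0, 0, 0⟩, ⟨0, 0, 0, 0⟩, ⟨0, 0, 0, 0⟩, ⟨0, 0, 0, 0⟩, ⟨1, 0, 0, 0⟩⟩)],
    [(3, ⟨⟨1, 1, 1, 0⟩, ⟨1, 1, 1, 0⟩, ⟨1, 0, 1, 1⟩, ⟨1, 0, 1, 1⟩, ⟨1, 0, 1, 0⟩, ⟨0, 1, 1, 0⟩, ⟨0, 0, 0, 1⟩, ⟨1, 0, 1, 1⟩, ⟨1, 1, 0, 0⟩⟩),
     (3, ⟨⟨1, 0, 0, 0⟩, ⟨0, 0, 0, 0⟩, ⟨0, 0, 0, 0⟩, ⟨0, 0, 1, 1⟩, ⟨1, 1, 1, 1⟩, ⟨1, 0, 0, 1⟩, ⟨0, 0, 0, 1⟩, ⟨1, 0, 1, 0⟩, ⟨1, 1, 1, 1⟩⟩),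
     (2, ⟨⟨1, 0, 0, 0⟩, ⟨1, 0, 0, 0⟩, ⟨1, 0, 0, 0⟩, ⟨0, 0, 1, 1⟩, ⟨1, 1, 0, 0⟩, ⟨0, 1, 0, 1⟩, ⟨0, 0, 0, 1⟩, ⟨1, 0, 1, 1⟩, ⟨0, 1, 0, 0⟩⟩),
     (3, ⟨⟨0, 1, 0, 0⟩, ⟨1, 1, 1, 1⟩, ⟨0, 0, 0, 1⟩, ⟨1, 0, 0, 1⟩, ⟨0, 1, 1, 0⟩, ⟨0, 0, 1, 0⟩, ⟨0, 0, 0, 0⟩, ⟨0, 0, 0, 1⟩, ⟨0, 0, 1, 1⟩⟩),
     (3, ⟨⟨1, 0, 1, 0⟩, ⟨0, 1, 0, 1⟩, ⟨0, 1, 1, 0⟩, ⟨0, 0, 1, 0⟩, ⟨0, 1, 1, 0⟩, ⟨0, 0, 1, 0⟩, ⟨0, 0, 0, 1⟩, ⟨1, 0, 1, 1⟩, ⟨0, 1, 0, 0⟩⟩),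
     (0, ⟨⟨1, 0, 1, 0⟩, ⟨1, 1, 1, 1⟩, ⟨0, 0, 1, 1⟩, ⟨0, 0, 1, 0⟩, ⟨0, 1, 0, 0⟩, ⟨0, 1, 0, 0⟩, ⟨0, 0, 0, 1⟩, ⟨1, 0, 1, 0⟩, ⟨1, 1, 1, 1⟩⟩),
     (3, ⟨⟨1, 0, 1, 0⟩, ⟨1, 0, 1, 1⟩, ⟨1, 1, 1, 1⟩, ⟨1, 0, 1, 0⟩, ⟨0, 0, 1, 1⟩, ⟨1, 1, 0, 1⟩, ⟨0, 0, 0, 0⟩, ⟨0, 0, 0, 1⟩, ⟨1, 0, 1, 1⟩⟩),
     (3, ⟨⟨1, 1, 1, 0⟩, ⟨1, 1, 0, 0⟩, ⟨0, 1, 1, 0⟩, ⟨0, 0, 1, 1⟩, ⟨1, 1, 1, 0⟩, ⟨0, 0, 1, 1⟩, ⟨0, 0, 0, 0⟩, ⟨0, 0, 0, 0⟩, ⟨1, 0, 0, 0⟩⟩),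
     (2, ⟨⟨1, 1, 1, 0⟩, ⟨0, 0, 1, 0⟩, ⟨0, 1, 0, 0⟩, ⟨0, 0, 1, 1⟩, ⟨1, 1, 0, 1⟩, ⟨1, 1, 1, 0⟩, ⟨0, 0, 0, 0⟩, ⟨0, 0, 0, 0⟩, ⟨1, 0, 0, 0⟩⟩),
     (2, ⟨⟨1, 1, 1, 0⟩, ⟨1, 1, 0, 0⟩, ⟨1, 0, 0, 0⟩, ⟨0, 0, 1, 1⟩, ⟨1, 1, 1, 0⟩, ⟨0, 0, 0, 0⟩, ⟨0, 0, 0, 0⟩, ⟨0, 0, 0, 0⟩, ⟨1, 0, 0, 0⟩⟩),
     (1, ⟨⟨1, 0, 1, 0⟩, ⟨0, 0, 0, 0⟩, ⟨0, 1, 0, 1⟩, ⟨1, 0, 1, 0⟩, ⟨0, 1, 1, 0⟩, ⟨0, 0, 0, 1⟩, ⟨0, 0, 0, 0⟩, ⟨0, 0, 0, 1⟩, ⟨1, 0, 1, 1⟩⟩),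
     (1, ⟨⟨0, 0, 0, 1⟩, ⟨1, 1, 1, 0⟩, ⟨1, 1, 1, 0⟩, ⟨0, 1, 1, 1⟩, ⟨1, 1, 0, 1⟩, ⟨0, 1, 0, 1⟩, ⟨0, 0, 0, 1⟩, ⟨1, 0, 1, 0⟩, ⟨1, 1, 1, 1⟩⟩),
     (2, ⟨⟨0, 0, 0, 1⟩, ⟨1, 1, 1, 1⟩, ⟨0, 0, 0, 1⟩, ⟨0, 1, 1, 1⟩, ⟨1, 0, 1, 0⟩, ⟨1, 1, 1, 1⟩, ⟨0, 0, 0, 1⟩, ⟨1, 0, 1, 1⟩, ⟨0, 1, 0, 0⟩⟩),
     (1, ⟨⟨0, 1, 0, 0⟩, ⟨0, 1, 0, 0⟩, ⟨0, 1, 0, 1⟩, ⟨1, 0, 0, 1⟩, ⟨0, 0, 1, 1⟩, ⟨1, 1, 0, 1⟩, ⟨0, 0, 0, 0⟩, ⟨0, 0, 0, 1⟩, ⟨0, 0, 1, 1⟩⟩),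
     (1, ⟨⟨0, 0, 1, 1⟩, ⟨0, 0, 1, 0⟩, ⟨1, 1, 1, 1⟩, ⟨0, 1, 1, 0⟩, ⟨0, 0, 0, 0⟩, ⟨1, 0, 0, 0⟩, ⟨0, 0, 0, 1⟩, ⟨1, 0, 1, 1⟩, ⟨0, 1, 0, 0⟩⟩),
     (0, ⟨⟨0, 0, 1, 1⟩, ⟨0, 0, 0, 1⟩, ⟨1, 1, 0, 1⟩, ⟨0, 1, 1, 0⟩, ⟨0, 1, 1, 0⟩, ⟨1, 0, 0, 0⟩, ⟨0, 0, 0, 1⟩, ⟨1, 0, 1, 0⟩, ⟨1, 1, 1, 1⟩⟩),
     (1, ⟨⟨0, 1, 0, 1⟩, ⟨0, 1, 0, 0⟩, ⟨0, 0, 1, 0⟩, ⟨1, 1, 1, 0⟩, ⟨0, 1, 1, 0⟩, ⟨1, 0, 0, 0⟩, ⟨0, 0, 0, 1⟩, ⟨1, 0, 1, 1⟩, ⟨1, 1, 0, 0⟩⟩),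
     (1, ⟨⟨1, 0, 0, 0⟩, ⟨0, 0, 0, 0⟩, ⟨1, 1, 1, 0⟩, ⟨0, 0, 0, 0⟩, ⟨1, 0, 0, 0⟩, ⟨0, 0, 1, 1⟩, ⟨0, 0, 0, 0⟩, ⟨0, 0, 0, 0⟩, ⟨1, 0, 0, 0⟩⟩)]]

theorem valid2 : cert2.Valid := by decide +kernel
theorem valid3 : cert3.Valid := by decide +kernel
theorem valid4 : cert4.Valid := by decide +kernel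
theorem valid7 : cert7.Valid := by decide +kernel
theorem valid16 : cert16.Valid := by decide +kernel

variable {F : Type*} [Field F] [Fintype F]

theorem exists_pair_prime (q : ℕ) [Fact q.Prime] (hq : Fintype.card F = q) (C : Cert (ZMod q))
    (hC : C.Valid) :
    ∃ u g : SpecialLinearGroup (Fin 3) F,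
      IsNilpotent ((u : Matrix (Fin 3) (Fin 3) F) - 1) ∧
        ((u : Matrix (Fin 3) (Fin 3) F) - 1) ^ (3 - 1) ≠ 0 ∧
        Subgroup.closure ({u, g * u * g⁻¹} : Set (SpecialLinearGroup (Fin 3) F)) = ⊤ := by
  have : CharP F q := charP_of_card_eq_prime hq
  exact exists_pair_of_cert (ZMod.castHom (dvd_refl q) F) (map_add _) (map_mul _) (map_zero _)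
    (map_one _) (RingHom.injective _) (by rw [ZMod.card, hq]) C hC

/-- A polynomial dividing `X ^ q - X` with a cofactor of smaller degree has a root. -/
theorem exists_root_of_factor (f g : F → F) (h : ∀ x, f x * g x = x ^ Fintype.card F - x)
    (Q : Polynomial F) (hQ : ∀ x, Q.eval x = g x) (hQ0 : Q ≠ 0)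
    (hdeg : Q.natDegree < Fintype.card F) : ∃ x, f x = 0 := by
  by_contra hf
  simp only [not_exists] at hf
  refine hQ0 (Polynomial.eq_zero_of_natDegree_lt_card_of_eval_eq_zero Q Function.injective_id
    (fun x => ?_) hdeg)
  have := h x
  rw [FiniteField.pow_card, sub_self, mul_eq_zero] at this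
  rw [id, hQ]
  exact this.resolve_left (hf x)

theorem exists_pair_four (hq : Fintype.card F = 4) :
    ∃ u g : SpecialLinearGroup (Fin 3) F,
      IsNilpotent ((u : Matrix (Fin 3) (Fin 3) F) - 1) ∧
        ((u : Matrix (Fin 3) (Fin 3) F) - 1) ^ (3 - 1) ≠ 0 ∧
        Subgroup.closure ({u, g * u * g⁻¹} : Set (SpecialLinearGroup (Fin 3) F)) = ⊤ := by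
  obtain ⟨p, hp, e, hpp, hcard⟩ := FiniteField.card' F
  have hp2 : p = 2 := ((Nat.prime_dvd_prime_iff_eq Nat.prime_two hpp).1
    (Nat.prime_two.dvd_of_dvd_pow (n := (e : ℕ)) (by rw [← hcard, hq]; norm_num))).symm
  subst hp2
  have : Fact (Nat.Prime 2) := ⟨hpp⟩
  have := hp
  have h2 : (2 : F) = 0 := CharTwo.two_eq_zero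
  obtain ⟨θ, hθ⟩ := exists_root_of_factor (fun x : F => x ^ 2 + x + 1) (fun x => x ^ 2 + x)
    (fun x => by rw [hq]; linear_combination (x ^ 3 + x ^ 2 + x) * h2)
    (Polynomial.X ^ 2 + Polynomial.X) (fun x => by simp)
    (by intro h; simpa using congrArg (fun P => Polynomial.coeff P 1) h)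
    (by rw [hq]; exact lt_of_le_of_lt (by compute_degree) (show 2 < 4 by norm_num))
  have hθ : θ ^ 2 = θ + 1 := by linear_combination hθ - (θ + 1) * h2
  set c : ZMod 2 →+* F := ZMod.castHom (dvd_refl 2) F with hc
  set φ : F4 → F := fun a => c a.c0 + c a.c1 * θ with hφ
  have hadd : ∀ a b, φ (a + b) = φ a + φ b := fun a b => by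
    show c (a.c0 + b.c0) + c (a.c1 + b.c1) * θ = _
    simp only [hφ, map_add]; ring
  have hmul : ∀ a b, φ (a * b) = φ a * φ b := fun a b => by
    show c (a.c0 * b.c0 + a.c1 * b.c1) + c (a.c0 * b.c1 + a.c1 * b.c0 + a.c1 * b.c1) * θ = _
    simp only [hφ, map_add, map_mul]
    linear_combination -(c a.c1 * c b.c1) * hθ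
  have h0 : φ 0 = 0 := by show c 0 + c 0 * θ = 0; simp
  have h1 : φ 1 = 1 := by show c 1 + c 0 * θ = 1; simp
  have key : ∀ b : F4, ∃ d, b + d = 0 ∧ ∀ a, a ≠ b → ∃ e, (a + d) * e = 1 := by decide +kernel
  have hinj : Function.Injective φ := by
    intro a b hab
    by_contra hne
    obtain ⟨d, hd, h⟩ := key b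
    obtain ⟨e, he⟩ := h a hne
    have := congrArg φ he
    rw [hmul, hadd, hab, ← hadd, hd, h0, zero_mul, h1] at this
    exact zero_ne_one this
  exact exists_pair_of_cert φ hadd hmul h0 h1 hinj (by rw [hq]; rfl) cert4 valid4

theorem exists_pair_sixteen (hq : Fintype.card F = 16) :
    ∃ u g : SpecialLinearGroup (Fin 3) F,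
      IsNilpotent ((u : Matrix (Fin 3) (Fin 3) F) - 1) ∧
        ((u : Matrix (Fin 3) (Fin 3) F) - 1) ^ (3 - 1) ≠ 0 ∧
        Subgroup.closure ({u, g * u * g⁻¹} : Set (SpecialLinearGroup (Fin 3) F)) = ⊤ := by
  obtain ⟨p, hp, e, hpp, hcard⟩ := FiniteField.card' F
  have hp2 : p = 2 := ((Nat.prime_dvd_prime_iff_eq Nat.prime_two hpp).1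
    (Nat.prime_two.dvd_of_dvd_pow (n := (e : ℕ)) (by rw [← hcard, hq]; norm_num))).symm
  subst hp2
  have : Fact (Nat.Prime 2) := ⟨hpp⟩
  have := hp
  have h2 : (2 : F) = 0 := CharTwo.two_eq_zero
  obtain ⟨θ, hθ⟩ := exists_root_of_factor (fun x : F => x ^ 4 + x + 1)
    (fun x => x ^ 12 + x ^ 9 + x ^ 8 + x ^ 6 + x ^ 4 + x ^ 3 + x ^ 2 + x)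
    (fun x => by
      rw [hq]
      linear_combination (x ^ 13 + x ^ 12 + x ^ 10 + x ^ 9 + x ^ 8 + x ^ 7 + x ^ 6 + x ^ 5 + x ^ 4 +
        x ^ 3 + x ^ 2 + x) * h2)
    (Polynomial.X ^ 12 + Polynomial.X ^ 9 + Polynomial.X ^ 8 + Polynomial.X ^ 6 + Polynomial.X ^ 4 +
      Polynomial.X ^ 3 + Polynomial.X ^ 2 + Polynomial.X) (fun x => by simp)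
    (by intro h; simpa using congrArg (fun P => Polynomial.coeff P 1) h)
    (by rw [hq]; exact lt_of_le_of_lt (by compute_degree) (show 12 < 16 by norm_num))
  have hθ : θ ^ 4 = θ + 1 := by linear_combination hθ - (θ + 1) * h2
  set c : ZMod 2 →+* F := ZMod.castHom (dvd_refl 2) F with hc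
  set φ : F16 → F := fun a => c a.c0 + c a.c1 * θ + c a.c2 * θ ^ 2 + c a.c3 * θ ^ 3 with hφ
  have hadd : ∀ a b, φ (a + b) = φ a + φ b := fun a b => by
    show c (a.c0 + b.c0) + c (a.c1 + b.c1) * θ + c (a.c2 + b.c2) * θ ^ 2 +
      c (a.c3 + b.c3) * θ ^ 3 = _
    simp only [hφ, map_add]; ring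
  have hmul : ∀ a b, φ (a * b) = φ a * φ b := fun a b => by
    show c (a.c0 * b.c0 + (a.c1 * b.c3 + a.c2 * b.c2 + a.c3 * b.c1)) +
        c (a.c0 * b.c1 + a.c1 * b.c0 + (a.c1 * b.c3 + a.c2 * b.c2 + a.c3 * b.c1) +
          (a.c2 * b.c3 + a.c3 * b.c2)) * θ +
        c (a.c0 * b.c2 + a.c1 * b.c1 + a.c2 * b.c0 + (a.c2 * b.c3 + a.c3 * b.c2) +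
          a.c3 * b.c3) * θ ^ 2 +
        c (a.c0 * b.c3 + a.c1 * b.c2 + a.c2 * b.c1 + a.c3 * b.c0 + a.c3 * b.c3) * θ ^ 3 = _
    simp only [hφ, map_add, map_mul]
    linear_combination -((c a.c1 * c b.c3 + c a.c2 * c b.c2 + c a.c3 * c b.c1) +
      (c a.c2 * c b.c3 + c a.c3 * c b.c2) * θ + c a.c3 * c b.c3 * θ ^ 2) * hθ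
  have h0 : φ 0 = 0 := by show c 0 + c 0 * θ + c 0 * θ ^ 2 + c 0 * θ ^ 3 = 0; simp
  have h1 : φ 1 = 1 := by show c 1 + c 0 * θ + c 0 * θ ^ 2 + c 0 * θ ^ 3 = 1; simp
  have key : ∀ b : F16, ∃ d, b + d = 0 ∧ ∀ a, a ≠ b → ∃ e, (a + d) * e = 1 := by decide +kernel
  have hinj : Function.Injective φ := by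
    intro a b hab
    by_contra hne
    obtain ⟨d, hd, h⟩ := key b
    obtain ⟨e, he⟩ := h a hne
    have := congrArg φ he
    rw [hmul, hadd, hab, ← hadd, hd, h0, zero_mul, h1] at this
    exact zero_ne_one this
  exact exists_pair_of_cert φ hadd hmul h0 h1 hinj (by rw [hq]; rfl) cert16 valid16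

end CfsgLib.Generators.RegularPairThree
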