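import Mathlib
import Cfsg.Agent.Lib.CharTheory.Burnside
import Cfsg.Agent.Lib.SmallGroups.Basic
import Cfsg.Agent.Lib.Derangements.PermIndex
import Cfsg.Agent.S0494
import Cfsg.Agent.S0495
import Cfsg.Agent.S0249

/-!
Subgroups without solvable normal subgroups of the symmetric groups of degree 5 and 6 and of the alternating
groups of degree 7 and 8: orders and isomorphism types.
-/

set_option autoImplicit false

namespace CfsgLib.Generators.SmallPermGroups

open Subgroup
open scoped Pointwise

variable {G : Type*} [Group G]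

/-- No solvable normal subgroup other than the trivial one. -/
def NoSolvNormal (G : Type*) [Group G] : Prop :=
  ∀ N : Subgroup G, N.Normal → Group.IsSolvable N → N = ⊥

theorem NoSolvNormal.of_equiv (h : NoSolvNormal G) {H : Type*} [Group H] (e : G ≃* H) : NoSolvNormal H := by
  intro N hN hs
  have hmem : N.comap e.toMonoidHom = ⊥ := by
    refine h _ (Subgroup.Normal.comap hN _) ?_
    haveI := hs
    exact Group.isSolvable_of_isSolvable_injective (f := e.toMonoidHom.subgroupComap N)
      (fun a b hab => Subtype.ext (e.injective (congrArg Subtype.val hab)))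
  rw [eq_bot_iff]
  intro y hy
  have : e.symm y ∈ N.comap e.toMonoidHom := by simpa using hy
  rw [hmem, Subgroup.mem_bot] at this
  rw [Subgroup.mem_bot, ← e.apply_symm_apply y, this, map_one]

theorem NoSolvNormal.injective (h : NoSolvNormal G) {X : Type*} [Group X] (f : G →* X)
    (hker : Group.IsSolvable f.ker) : Function.Injective f :=
  (MonoidHom.ker_eq_bot_iff f).mp (h _ f.normal_ker hker)

theorem NoSolvNormal.not_solvable [Nontrivial G] (h : NoSolvNormal G) : ¬ Group.IsSolvable G := fun hs => by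
  have := h ⊤ inferInstance (Group.isSolvable_of_isSolvable_injective (f := (⊤ : Subgroup G).subtype) Subtype.val_injective)
  exact top_ne_bot this

theorem isSolvable_of_two_primes [Finite G] {n : ℕ} (p q a b : ℕ) (hp : p.Prime) (hq : q.Prime)
    (hn : Nat.card G = n) (hd : n ∣ p ^ a * q ^ b) : Group.IsSolvable G :=
  CfsgLib.CharTheory.isSolvable_of_card_dvd_pow_mul_pow p q a b hp hq (hn ▸ hd)

theorem isSolvable_of_extension (N : Subgroup G) [N.Normal] (hN : Group.IsSolvable N)
    (hQ : Group.IsSolvable (G ⧸ N)) : Group.IsSolvable G :=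
  @Group.isSolvable_of_ker_le_range _ _ _ _ _ _ N.subtype (QuotientGroup.mk' N) (by simp) hN hQ

/-- A Sylow subgroup of prime order whose normalizer has order prime to `p - 1` has a normal complement;
if the complement is solvable, there is a solvable normal subgroup. -/
theorem NoSolvNormal.false_of_coprime [Finite G] (h : NoSolvNormal G) {p m : ℕ} [hp : Fact p.Prime]
    (hn : Nat.card G = p * m) (hm : ¬ p ∣ m) (hm1 : m ≠ 1) (P : Sylow p G)
    (hN : (Nat.card ↥(normalizer ((P : Subgroup G) : Set G))).Coprime (p - 1))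
    (hsolv : ∀ M : Subgroup G, Nat.card M = m → Group.IsSolvable M) : False := by
  have hP : Nat.card ↥(P : Subgroup G) = p := by
    simpa using CfsgLib.SmallGroups.card_sylow_eq (a := 1) (by simpa using hn) hm P
  have hd := CfsgLib.SmallGroups.relIndex_centralizer_dvd_pred (P : Subgroup G) hP
  have hd2 : (centralizer ((P : Subgroup G) : Set G)).relIndex (normalizer ((P : Subgroup G) : Set G)) ∣
      Nat.card ↥(normalizer ((P : Subgroup G) : Set G)) := index_dvd_card _
  have h1 := Nat.eq_one_of_dvd_coprimes hN hd2 hd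
  rw [relIndex_eq_one] at h1
  have hc := MonoidHom.ker_transferSylow_isComplement' P h1
  have hcard : Nat.card (MonoidHom.transferSylow P h1).ker = m := by
    have h2 := hc.card_mul
    rw [hP, hn] at h2
    exact Nat.eq_of_mul_eq_mul_left hp.out.pos (by rw [← h2, mul_comm])
  have hbot := h _ (MonoidHom.normal_ker _) (hsolv _ hcard)
  rw [hbot, Subgroup.card_bot] at hcard
  exact hm1 hcard.symm

theorem card_sylow_mem' [Finite G] {p m : ℕ} [Fact p.Prime] (hn : Nat.card G = p * m) (hm : ¬ p ∣ m) :
    Nat.card (Sylow p G) ∈ m.divisors.filter (fun d => d % p = 1) :=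
  CfsgLib.SmallGroups.card_sylow_mem (a := 1) (by simpa using hn) hm

theorem isSolvable_of_sylow_normal [Finite G] {p m : ℕ} [hp : Fact p.Prime] (hn : Nat.card G = p * m)
    (hm : ¬ p ∣ m) (h1 : Nat.card (Sylow p G) = 1) (q r a b : ℕ) (hq : q.Prime) (hr : r.Prime)
    (hd : m ∣ q ^ a * r ^ b) : Group.IsSolvable G := by
  obtain ⟨P⟩ : Nonempty (Sylow p G) := inferInstance
  haveI : (P : Subgroup G).Normal := by
    rw [← normalizer_eq_top_iff, ← index_eq_one]
    exact P.card_eq_index_normalizer.symm.trans h1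
  have hP : Nat.card ↥(P : Subgroup G) = p := by
    simpa using CfsgLib.SmallGroups.card_sylow_eq (a := 1) (by simpa using hn) hm P
  haveI : IsCyclic ↥(P : Subgroup G) := isCyclic_of_prime_card hP
  refine isSolvable_of_extension (P : Subgroup G) ?_ (isSolvable_of_two_primes q r a b hq hr (n := m) ?_ hd)
  · exact Group.isSolvable_of_comm fun a b => IsCyclic.commGroup.mul_comm a b
  · have h2 := card_mul_index (P : Subgroup G)
    rw [hP, hn] at h2
    exact (Nat.eq_of_mul_eq_mul_left hp.out.pos h2)

theorem isSolvable_thirty [Finite G] (hn : Nat.card G = 30) : Group.IsSolvable G := by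
  haveI : Fact (Nat.Prime 5) := ⟨by norm_num⟩
  by_cases h : NoSolvNormal G
  · exfalso
    have h6 : Nat.card (Sylow 5 G) = 1 ∨ Nat.card (Sylow 5 G) = 6 := by
      have := card_sylow_mem' (p := 5) (m := 6) hn (by norm_num)
      revert this
      generalize Nat.card (Sylow 5 G) = n
      intro hmem
      rw [show Nat.divisors 6 = {1, 2, 3, 6} by decide] at hmem
      fin_cases hmem <;> simp at *
    obtain ⟨P⟩ : Nonempty (Sylow 5 G) := inferInstance
    rcases h6 with h1 | h1
    · haveI : Nontrivial G := Finite.one_lt_card_iff_nontrivial.mp (by rw [hn]; norm_num)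
      exact h.not_solvable (isSolvable_of_sylow_normal (m := 6) hn (by norm_num) h1 2 3 1 1
        Nat.prime_two Nat.prime_three (by norm_num))
    · have h2 := CfsgLib.SmallGroups.card_sylow_mul_card_normalizer P
      rw [h1, hn] at h2
      exact h.false_of_coprime (m := 6) hn (by norm_num) (by norm_num) P
        (by rw [show Nat.card ↥(normalizer ((P : Subgroup G) : Set G)) = 5 by omega]; norm_num)
        fun M hM => isSolvable_of_two_primes 2 3 1 1 Nat.prime_two Nat.prime_three hM (by norm_num)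
  · simp only [NoSolvNormal, not_forall] at h
    obtain ⟨N, hN, hNs, hNne⟩ := h
    haveI := hN
    have hmul := card_mul_index N
    rw [hn] at hmul
    refine isSolvable_of_extension N hNs ?_
    have hq : Nat.card (G ⧸ N) ∣ 30 := ⟨Nat.card N, by rw [← hmul, mul_comm]; rfl⟩
    have hlt : Nat.card (G ⧸ N) < 30 := by
      have h1 := Nat.card_pos (α := N)
      have h2 : Nat.card N ≠ 1 := fun h => hNne (card_eq_one.mp h)
      change N.index < 30
      have h3 : 2 ≤ Nat.card N := by omega
      nlinarith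
    have key : ∀ d ∈ Nat.divisors 30, d < 30 → d ∣ 2 ^ 1 * 3 ^ 1 ∨ d ∣ 2 ^ 1 * 5 ^ 1 ∨ d ∣ 3 ^ 1 * 5 ^ 1 := by decide
    rcases key _ (Nat.mem_divisors.mpr ⟨hq, by norm_num⟩) hlt with hd | hd | hd
    · exact isSolvable_of_two_primes 2 3 1 1 Nat.prime_two Nat.prime_three rfl hd
    · exact isSolvable_of_two_primes 2 5 1 1 Nat.prime_two (by norm_num) rfl hd
    · exact isSolvable_of_two_primes 3 5 1 1 Nat.prime_three (by norm_num) rfl hd

theorem NoSolvNormal.simple_of [Finite G] [Nontrivial G] (h : NoSolvNormal G)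
    (hsolv : ∀ N : Subgroup G, N.Normal → Nat.card N < Nat.card G → Group.IsSolvable N) : IsSimpleGroup G := by
  refine ⟨fun N hN => ?_⟩
  by_cases hlt : Nat.card N < Nat.card G
  · exact Or.inl (h N hN (hsolv N hN hlt))
  · exact Or.inr (N.eq_top_of_le_card (not_lt.mp hlt))

theorem iso_alt_five [Finite G] (h : NoSolvNormal G) (hn : Nat.card G = 60) :
    Nonempty (G ≃* alternatingGroup (Fin 5)) := by
  haveI : Nontrivial G := Finite.one_lt_card_iff_nontrivial.mp (by rw [hn]; norm_num)
  haveI : IsSimpleGroup G := h.simple_of fun N _ hlt => by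
    have hd : Nat.card N ∣ 60 := hn ▸ card_subgroup_dvd_card N
    rw [hn] at hlt
    have key : ∀ d ∈ Nat.divisors 60, d < 60 →
        d = 30 ∨ d ∣ 2 ^ 2 * 3 ^ 1 ∨ d ∣ 2 ^ 2 * 5 ^ 1 ∨ d ∣ 3 ^ 1 * 5 ^ 1 := by decide
    rcases key _ (Nat.mem_divisors.mpr ⟨hd, by norm_num⟩) hlt with hd | hd | hd | hd
    · exact isSolvable_thirty hd
    · exact isSolvable_of_two_primes 2 3 2 1 Nat.prime_two Nat.prime_three rfl hd
    · exact isSolvable_of_two_primes 2 5 2 1 Nat.prime_two (by norm_num) rfl hd
    · exact isSolvable_of_two_primes 3 5 1 1 Nat.prime_three (by norm_num) rfl hd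
  exact Cfsg.Agent.S0494.result hn

theorem card_GL3 : Nat.card (GL (Fin 3) (ZMod 2)) = 168 := by
  rw [Matrix.card_GL_field, ZMod.card, Fin.prod_univ_three]
  rfl

theorem isSimple_GL3 : IsSimpleGroup (GL (Fin 3) (ZMod 2)) := by
  haveI := Cfsg.Agent.S0249.result (F := ZMod 2) 3 le_rfl
  have hone : ∀ u : (ZMod 2)ˣ, u = 1 := by decide
  let f : Matrix.SpecialLinearGroup (Fin 3) (ZMod 2) →* GL (Fin 3) (ZMod 2) := Matrix.SpecialLinearGroup.toGL
  have hf : Function.Bijective f := by
    refine ⟨Matrix.SpecialLinearGroup.toGL_injective, fun g => ?_⟩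
    have hdet := congrArg Units.val (hone (Matrix.GeneralLinearGroup.det g))
    rw [Matrix.GeneralLinearGroup.val_det_apply] at hdet
    exact ⟨⟨g, hdet⟩, Units.ext rfl⟩
  have hc : center (Matrix.SpecialLinearGroup (Fin 3) (ZMod 2)) = ⊥ := by
    rw [← card_eq_one, Nat.card_congr (Matrix.SpecialLinearGroup.center_equiv_rootsOfUnity).toEquiv]
    exact Nat.card_eq_one_iff_unique.mpr ⟨⟨fun a b => Subtype.ext ((hone a.1).trans (hone b.1).symm)⟩, ⟨1⟩⟩
  let e : Matrix.ProjectiveSpecialLinearGroup (Fin 3) (ZMod 2) ≃* GL (Fin 3) (ZMod 2) :=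
    ((QuotientGroup.quotientMulEquivOfEq hc).trans QuotientGroup.quotientBot).trans (MulEquiv.ofBijective f hf)
  exact e.symm.isSimpleGroup

theorem iso_GL3 [Finite G] (h : NoSolvNormal G) (hn : Nat.card G = 168) :
    Nonempty (G ≃* GL (Fin 3) (ZMod 2)) := by
  haveI : Fact (Nat.Prime 7) := ⟨by norm_num⟩
  haveI : Nontrivial G := Finite.one_lt_card_iff_nontrivial.mp (by rw [hn]; norm_num)
  haveI : IsSimpleGroup G := h.simple_of fun N _ hlt => by
    have hd : Nat.card N ∣ 168 := hn ▸ card_subgroup_dvd_card N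
    rw [hn] at hlt
    have key : ∀ d ∈ Nat.divisors 168, d < 168 →
        d = 84 ∨ d = 42 ∨ d ∣ 2 ^ 3 * 3 ^ 1 ∨ d ∣ 2 ^ 3 * 7 ^ 1 ∨ d ∣ 3 ^ 1 * 7 ^ 1 := by decide +kernel
    rcases key _ (Nat.mem_divisors.mpr ⟨hd, by norm_num⟩) hlt with hd | hd | hd | hd | hd
    · have h1 := card_sylow_mem' (p := 7) (m := 12) (G := N) hd (by norm_num)
      rw [show Finset.filter (fun d => d % 7 = 1) (Nat.divisors 12) = {1} by decide, Finset.mem_singleton] at h1
      exact isSolvable_of_sylow_normal (m := 12) hd (by norm_num) h1 2 3 2 1 Nat.prime_two Nat.prime_three (by norm_num)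
    · have h1 := card_sylow_mem' (p := 7) (m := 6) (G := N) hd (by norm_num)
      rw [show Finset.filter (fun d => d % 7 = 1) (Nat.divisors 6) = {1} by decide, Finset.mem_singleton] at h1
      exact isSolvable_of_sylow_normal (m := 6) hd (by norm_num) h1 2 3 1 1 Nat.prime_two Nat.prime_three (by norm_num)
    · exact isSolvable_of_two_primes 2 3 3 1 Nat.prime_two Nat.prime_three rfl hd
    · exact isSolvable_of_two_primes 2 7 3 1 Nat.prime_two (by norm_num) rfl hd
    · exact isSolvable_of_two_primes 3 7 1 1 Nat.prime_three (by norm_num) rfl hd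
  haveI := isSimple_GL3
  obtain ⟨e₁⟩ := Cfsg.Agent.S0495.result hn (ZMod.card 7)
  obtain ⟨e₂⟩ := Cfsg.Agent.S0495.result card_GL3 (ZMod.card 7)
  exact ⟨e₁.trans e₂.symm⟩

/-- Subgroups of the alternating group of degree `n + 1` fixing a point embed in degree `n`. -/
theorem exists_hom_alternating_of_fixed {n : ℕ} {α : Type*} [Fintype α] [DecidableEq α]
    (hα : Fintype.card α = n + 1) (a : α) (H : Subgroup (Equiv.Perm α)) (hH : H ≤ alternatingGroup α)
    (hfix : ∀ g ∈ H, g a = a) : ∃ f : H →* alternatingGroup (Fin n), Function.Injective f := by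
  have hβ : Fintype.card {x : α // x ≠ a} = n := by simp [hα]
  let e := Fintype.equivFinOfCardEq hβ
  have hiff : ∀ g : H, ∀ x, (g : Equiv.Perm α) x ≠ a ↔ x ≠ a := fun g x =>
    not_congr ⟨fun h => (g : Equiv.Perm α).injective (h.trans (hfix g g.2).symm), fun h => h ▸ hfix g g.2⟩
  let r : H →* Equiv.Perm {x : α // x ≠ a} :=
    { toFun := fun g => (g : Equiv.Perm α).subtypePerm (hiff g)
      map_one' := rfl
      map_mul' := fun g h => rfl }
  have hinj : Function.Injective r := fun g h hgh => Subtype.ext (Equiv.ext fun x => by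
    by_cases hx : x = a
    · rw [hx, hfix g g.2, hfix h h.2]
    · exact congrArg Subtype.val (Equiv.congr_fun hgh ⟨x, hx⟩))
  refine ⟨(e.permCongrHom.toMonoidHom.comp r).codRestrict _ fun g => ?_, fun g h hgh => ?_⟩
  · rw [Equiv.Perm.mem_alternatingGroup]
    show Equiv.Perm.sign (e.permCongr (r g)) = 1
    rw [Equiv.Perm.sign_permCongr]
    show Equiv.Perm.sign ((g : Equiv.Perm α).subtypePerm (hiff g)) = 1
    convert (Equiv.Perm.sign_subtypePerm (g : Equiv.Perm α) (hiff g) fun x hx (hxa : x = a) => hx (hxa ▸ hfix g g.2)).trans (hH g.2)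
  · exact hinj (e.permCongrHom.injective (congrArg Subtype.val hgh))

theorem card_alt {n : ℕ} (hn : 2 ≤ n) : Nat.card (alternatingGroup (Fin n)) * 2 = n.factorial := by
  haveI : Nontrivial (Fin n) := Fin.nontrivial_iff_two_le.mpr hn
  have h := two_mul_nat_card_alternatingGroup (α := Fin n)
  rw [Nat.card_perm, Nat.card_fin] at h
  omega

/-- A subgroup of index `n + 1` of the alternating group of degree `n + 1` is alternating of degree `n`. -/
theorem iso_alt_of_index {n : ℕ} (hn : 4 ≤ n) (H : Subgroup (alternatingGroup (Fin (n + 1))))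
    (hH : H.index = n + 1) : Nonempty (H ≃* alternatingGroup (Fin n)) := by
  classical
  haveI : IsSimpleGroup (alternatingGroup (Fin (n + 1))) :=
    alternatingGroup.isSimpleGroup (by rw [Nat.card_fin]; omega)
  have hne : H ≠ ⊤ := fun h => by rw [h, index_top] at hH; omega
  have hG : ¬ IsMulCommutative (alternatingGroup (Fin (n + 1))) :=
    CfsgLib.SmallGroups.not_isMulCommutative_of_card fun hp => by
      have h1 := card_alt (n := n + 1) (by omega)
      have h2 : 2 ∣ Nat.card (alternatingGroup (Fin (n + 1))) := by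
        have h4 : 4 ∣ (n + 1).factorial :=
          (Nat.dvd_factorial (by norm_num : 0 < 4) (by omega))
        omega
      have h3 := (Nat.prime_dvd_prime_iff_eq Nat.prime_two hp).mp h2
      have h5 : (5 : ℕ).factorial ≤ (n + 1).factorial := Nat.factorial_le (by omega)
      simp only [Nat.factorial] at h5
      rw [← h3] at h1
      simp only [Nat.factorial] at h1
      omega
  let e₀ : (alternatingGroup (Fin (n + 1)) ⧸ H) ≃ Fin (n + 1) := Finite.equivFinOfCardEq hH
  let g : alternatingGroup (Fin (n + 1)) →* Equiv.Perm (Fin (n + 1)) :=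
    e₀.permCongrHom.toMonoidHom.comp (MulAction.toPermHom _ _)
  have hg : Function.Injective g :=
    e₀.permCongrHom.injective.comp (CfsgLib.SmallGroups.toPermHom_cosets_injective hne)
  have hfix : ∀ y ∈ H.map g, y (e₀ ((1 : alternatingGroup (Fin (n + 1))) : _ ⧸ H)) = e₀ ((1 : alternatingGroup (Fin (n + 1))) : _ ⧸ H) := by
    rintro y ⟨x, hx, rfl⟩
    show e₀.permCongr (MulAction.toPerm x) (e₀ _) = e₀ _
    rw [Equiv.permCongr_apply, e₀.symm_apply_apply, MulAction.toPerm_apply, e₀.apply_eq_iff_eq,
      ← MulAction.mem_stabilizer_iff, MulAction.stabilizer_quotient]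
    exact hx
  have hle : H.map g ≤ alternatingGroup (Fin (n + 1)) := by
    rintro y ⟨x, -, rfl⟩
    rw [Equiv.Perm.mem_alternatingGroup]
    rcases (inferInstance : (Equiv.Perm.sign.comp g).ker.Normal).eq_bot_or_eq_top with h | h
    · exact absurd (IsMulCommutative.of_comm fun a b =>
        (MonoidHom.ker_eq_bot_iff _).mp h (by rw [map_mul, map_mul, mul_comm])) hG
    · exact (h ▸ mem_top x : x ∈ (Equiv.Perm.sign.comp g).ker)
  obtain ⟨f, hf⟩ := exists_hom_alternating_of_fixed (n := n) (by simp) _ (H.map g) hle hfix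
  let f' : H →* alternatingGroup (Fin n) := f.comp (H.equivMapOfInjective g hg).toMonoidHom
  refine ⟨MulEquiv.ofBijective f' ((Nat.bijective_iff_injective_and_card f').mpr
    ⟨hf.comp (H.equivMapOfInjective g hg).injective, ?_⟩)⟩
  have h1 := card_alt (n := n + 1) (by omega)
  have h2 := card_alt (n := n) (by omega)
  rw [← H.card_mul_index, hH, Nat.factorial_succ, ← h2] at h1
  have : (n + 1) * (Nat.card H * 2) = (n + 1) * (Nat.card (alternatingGroup (Fin n)) * 2) := by
    rw [← h1]; ring
  have := Nat.eq_of_mul_eq_mul_left (by omega) this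
  omega

/-- Degree five. -/
theorem degree_five (L : Subgroup (Equiv.Perm (Fin 5))) (hne : L ≠ ⊥) (h : NoSolvNormal L) :
    Nonempty (L ≃* alternatingGroup (Fin 5)) ∨ Nonempty (L ≃* Equiv.Perm (Fin 5)) := by
  haveI : Nontrivial L := (Subgroup.nontrivial_iff_ne_bot L).mpr hne
  by_cases htop : L = ⊤
  · subst htop; exact Or.inr ⟨Subgroup.topEquiv⟩
  by_cases halt : L = alternatingGroup (Fin 5)
  · subst halt; exact Or.inl ⟨MulEquiv.refl _⟩
  exfalso
  have hidx := CfsgLib.Derangements.card_le_index (by simp) L htop halt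
  have hmul := L.card_mul_index
  rw [Nat.card_perm, Nat.card_fin] at hmul
  rw [Fintype.card_fin] at hidx
  have hle : Nat.card L ≤ 24 := by
    simp only [Nat.factorial] at hmul
    nlinarith
  have key : ∀ d ∈ Nat.divisors 120, d ≤ 24 → d ∣ 2 ^ 3 * 3 ^ 1 ∨ d ∣ 2 ^ 3 * 5 ^ 1 ∨ d ∣ 3 ^ 1 * 5 ^ 1 := by decide +kernel
  rcases key _ (Nat.mem_divisors.mpr ⟨⟨_, hmul.symm⟩, by norm_num⟩) hle with hd | hd | hd
  · exact h.not_solvable (isSolvable_of_two_primes 2 3 3 1 Nat.prime_two Nat.prime_three rfl hd)
  · exact h.not_solvable (isSolvable_of_two_primes 2 5 3 1 Nat.prime_two (by norm_num) rfl hd)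
  · exact h.not_solvable (isSolvable_of_two_primes 3 5 1 1 Nat.prime_three (by norm_num) rfl hd)

/-- Degree six. -/
theorem degree_six (L : Subgroup (Equiv.Perm (Fin 6))) (hne : L ≠ ⊥) (h : NoSolvNormal L) :
    Nonempty (L ≃* alternatingGroup (Fin 5)) ∨ Nonempty (L ≃* Equiv.Perm (Fin 5)) ∨
    Nonempty (L ≃* alternatingGroup (Fin 6)) ∨ Nonempty (L ≃* Equiv.Perm (Fin 6)) := by
  haveI : Nontrivial L := (Subgroup.nontrivial_iff_ne_bot L).mpr hne
  by_cases htop : L = ⊤
  · subst htop; exact Or.inr (Or.inr (Or.inr ⟨Subgroup.topEquiv⟩))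
  by_cases halt : L = alternatingGroup (Fin 6)
  · subst halt; exact Or.inr (Or.inr (Or.inl ⟨MulEquiv.refl _⟩))
  have hidx := CfsgLib.Derangements.card_le_index (by simp) L htop halt
  have hmul := L.card_mul_index
  rw [Nat.card_perm, Nat.card_fin] at hmul
  rw [Fintype.card_fin] at hidx
  simp only [Nat.factorial] at hmul
  have hle : Nat.card L ≤ 120 := by nlinarith
  have key : ∀ d ∈ Nat.divisors 720, d ≤ 120 → d = 30 ∨ d = 60 ∨ d = 90 ∨ d = 120 ∨
      d ∣ 2 ^ 4 * 3 ^ 2 ∨ d ∣ 2 ^ 4 * 5 ^ 1 ∨ d ∣ 3 ^ 2 * 5 ^ 1 := by decide +kernel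
  rcases key _ (Nat.mem_divisors.mpr ⟨⟨_, hmul.symm⟩, by norm_num⟩) hle with hd | hd | hd | hd | hd | hd | hd
  · exact absurd (isSolvable_thirty hd) h.not_solvable
  · exact Or.inl (iso_alt_five h hd)
  · exfalso
    have hi : L.index = 8 := by rw [hd] at hmul; omega
    let s : L →* ℤˣ := Equiv.Perm.sign.comp L.subtype
    rcases eq_or_ne s.ker ⊤ with hk | hk
    · -- inside the alternating group
      have hLA : L ≤ alternatingGroup (Fin 6) := fun x hx => (hk ▸ mem_top _ : (⟨x, hx⟩ : L) ∈ s.ker)
      haveI : IsSimpleGroup (alternatingGroup (Fin 6)) := alternatingGroup.isSimpleGroup (by simp)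
      have hA : Nat.card (alternatingGroup (Fin 6)) = 360 := by
        have := card_alt (n := 6) (by norm_num)
        simp only [Nat.factorial] at this
        omega
      have hc : Nat.card (L.subgroupOf (alternatingGroup (Fin 6))) = 90 := by
        rw [Nat.card_congr (Subgroup.subgroupOfEquivOfLe hLA).toEquiv, hd]
      have hm := (L.subgroupOf (alternatingGroup (Fin 6))).card_mul_index
      rw [hA, hc] at hm
      have hne' : L.subgroupOf (alternatingGroup (Fin 6)) ≠ ⊤ := fun ht => by
        rw [ht, index_top] at hm; norm_num at hm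
      have hdvd := CfsgLib.SmallGroups.two_mul_card_dvd_factorial_index
        (CfsgLib.SmallGroups.not_isMulCommutative_of_card_eq hA (by norm_num)) hne'
      rw [hA, show (L.subgroupOf (alternatingGroup (Fin 6))).index = 4 by omega] at hdvd
      norm_num [Nat.factorial] at hdvd
    · have hk2 : Nat.card s.ker * s.ker.index = 90 := by rw [card_mul_index, hd]
      have hi2 : s.ker.index ∣ 2 := by
        rw [index_ker]
        refine (card_subgroup_dvd_card _).trans ?_
        rw [Nat.card_eq_fintype_card, Fintype.card_units_int]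
      have hi3 : s.ker.index ≠ 1 := fun h1 => hk (index_eq_one.mp h1)
      have hi4 : s.ker.index = 2 := ((Nat.dvd_prime Nat.prime_two).mp hi2).resolve_left hi3
      rw [hi4] at hk2
      have := h _ s.normal_ker (isSolvable_of_two_primes 3 5 2 1 Nat.prime_three (by norm_num) (n := 45) (by omega) (by norm_num))
      rw [this, Subgroup.card_bot] at hk2
      omega
  · refine Or.inr (Or.inl ?_)
    have hi : L.index = Fintype.card (Fin 6) := by rw [Fintype.card_fin]; rw [hd] at hmul; omega
    obtain ⟨φ, hφ, b, hb⟩ := CfsgLib.Derangements.exists_auto (by simp) L hi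
    obtain ⟨e⟩ := CfsgLib.Derangements.stabilizer_mulEquiv b (m := 5) (by simp)
    let E := MulEquiv.ofBijective φ hφ
    subst hb
    exact ⟨(MulEquiv.subgroupMap E _).trans ((MulEquiv.subgroupCongr (Subgroup.map_comap_eq_self_of_surjective hφ.2 _)).trans e)⟩
  · exact absurd (isSolvable_of_two_primes 2 3 4 2 Nat.prime_two Nat.prime_three rfl hd) h.not_solvable
  · exact absurd (isSolvable_of_two_primes 2 5 4 1 Nat.prime_two (by norm_num) rfl hd) h.not_solvable
  · exact absurd (isSolvable_of_two_primes 3 5 2 1 Nat.prime_three (by norm_num) rfl hd) h.not_solvable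

section Seven

variable {α : Type*} [Fintype α] [DecidableEq α]

/-- An element of order seven on seven or eight points is a seven-cycle, self-centralizing. -/
theorem card_centralizer_seven (hα : Fintype.card α ≤ 8) {g : Equiv.Perm α} (hg : orderOf g = 7) :
    g.support.card = 7 ∧ Nat.card (centralizer ({g} : Set (Equiv.Perm α))) = 7 := by
  haveI : Fact (Nat.Prime 7) := ⟨by norm_num⟩
  obtain ⟨k, hk⟩ := Equiv.Perm.cycleType_prime_order (hg ▸ (by norm_num : Nat.Prime 7))
  have hsum := Equiv.Perm.sum_cycleType g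
  have hle : g.support.card ≤ 8 := (Finset.card_le_univ _).trans hα
  rw [hk, hg, Multiset.sum_replicate, smul_eq_mul] at hsum
  obtain rfl : k = 0 := by omega
  have hs : g.support.card = 7 := by omega
  refine ⟨hs, ?_⟩
  have h7 : 7 ≤ Fintype.card α := hs ▸ Finset.card_le_univ _
  rw [Equiv.Perm.nat_card_centralizer, hk, hg, Multiset.sum_replicate]
  have : Fintype.card α - 7 = 0 ∨ Fintype.card α - 7 = 1 := by omega
  rcases this with h | h <;> simp [h]

/-- An even involution does not invert a seven-cycle on at most eight points. -/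
theorem not_inverts_seven (hα : Fintype.card α ≤ 8) {g t : Equiv.Perm α} (hg : orderOf g = 7) (ht2 : t * t = 1)
    (hte : Equiv.Perm.sign t = 1) (hconj : t * g * t⁻¹ = g⁻¹) : False := by
  have hs := (card_centralizer_seven hα hg).1
  have hcyc : g.IsCycle := Equiv.Perm.isCycle_of_prime_order' (hg ▸ (by norm_num : Nat.Prime 7))
    (by rw [hg]; omega)
  have htinv : t⁻¹ = t := inv_eq_of_mul_eq_one_left ht2
  have htt : ∀ y, t (t y) = y := fun y => by rw [← Equiv.Perm.mul_apply, ht2, Equiv.Perm.one_apply]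
  have hmem : ∀ y, y ∈ g.support → t y ∈ g.support := by
    intro y hy
    rw [Equiv.Perm.mem_support] at hy ⊢
    intro h
    have h2 := Equiv.congr_fun hconj y
    rw [htinv, Equiv.Perm.mul_apply, Equiv.Perm.mul_apply, h, htt] at h2
    exact hy ((Equiv.Perm.eq_inv_iff_eq.mp h2))
  -- a fixed point inside the support
  obtain ⟨x, hx, hxt⟩ : ∃ x ∈ g.support, t x = x := by
    by_contra hc
    push Not at hc
    let σ : Equiv.Perm g.support := t.subtypePerm fun y => ⟨fun h => by simpa [htt] using hmem _ h, hmem y⟩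
    have hsupp : σ.support = Finset.univ := Finset.eq_univ_of_forall fun y =>
      Equiv.Perm.mem_support.mpr fun h => hc y.1 y.2 (congrArg Subtype.val h)
    have h := Equiv.Perm.two_dvd_card_support (σ := σ) (by
      rw [pow_two]; exact Equiv.ext fun y => Subtype.ext (htt _))
    rw [hsupp, Finset.card_univ, Fintype.card_coe, hs] at h
    norm_num at h
  have hpow : ∀ i : ℕ, t ((g ^ i) x) = (g⁻¹ ^ i) x := fun i => by
    have h2 : t * g ^ i * t⁻¹ = g⁻¹ ^ i := by rw [← conj_pow, hconj]
    have h3 := Equiv.congr_fun h2 x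
    rwa [htinv, Equiv.Perm.mul_apply, Equiv.Perm.mul_apply, hxt] at h3
  have hin : ∀ y ∈ g.support, y ≠ x → t y ≠ y := by
    intro y hy hne h
    obtain ⟨i, rfl⟩ := hcyc.exists_pow_eq (Equiv.Perm.mem_support.mp hx) (Equiv.Perm.mem_support.mp hy)
    rw [hpow] at h
    refine hne ?_
    have h4 : (g ^ (2 * i)) x = x := by
      rw [two_mul, pow_add, Equiv.Perm.mul_apply, ← h, ← Equiv.Perm.mul_apply, inv_pow, mul_inv_cancel, Equiv.Perm.one_apply]
    have h5 : ∀ j : ℕ, (g ^ (2 * i * j)) x = x := fun j => by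
      rw [pow_mul]
      exact Function.IsFixedPt.perm_pow h4 j
    have h6 : g ^ (2 * i * 4) = g ^ i := by
      rw [show 2 * i * 4 = i + 7 * i by ring, pow_add, pow_mul g 7, ← hg, pow_orderOf_eq_one, one_pow, mul_one]
    rw [← h6]
    exact h5 4
  have hsup : t.support = g.support.erase x := by
    ext y
    rw [Finset.mem_erase, Equiv.Perm.mem_support]
    refine ⟨fun h => ⟨fun e => h (e ▸ hxt), ?_⟩, fun h => hin y h.2 h.1⟩
    by_contra hy
    -- `y` is the only point outside the support
    have hcompl : g.supportᶜ.card ≤ 1 := by rw [Finset.card_compl, hs]; omega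
    have hty : t y ∈ g.supportᶜ := by
      rw [Finset.mem_compl]
      exact fun h' => hy (by simpa [htt] using hmem _ h')
    exact h (Finset.card_le_one.mp hcompl _ hty _ (Finset.mem_compl.mpr hy))
  have h7 : t.support.card = 6 := by rw [hsup, Finset.card_erase_of_mem hx, hs]
  have ht1 : t ≠ 1 := fun h => by simp [h] at h7
  obtain ⟨k, hk⟩ := Equiv.Perm.cycleType_prime_order (σ := t)
    ((orderOf_eq_prime (p := 2) (by rw [pow_two, ht2]) ht1).symm ▸ Nat.prime_two)
  rw [orderOf_eq_prime (p := 2) (by rw [pow_two, ht2]) ht1] at hk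
  have hsum := Equiv.Perm.sum_cycleType t
  rw [hk, h7, Multiset.sum_replicate, smul_eq_mul] at hsum
  obtain rfl : k = 2 := by omega
  rw [Equiv.Perm.sign_of_cycleType, hk] at hte
  simp at hte
  exact absurd hte (by decide)

/-- The normalizer of a Sylow 7-subgroup in a subgroup of the alternating group of degree at most eight. -/
theorem card_normalizer_seven (hα : Fintype.card α ≤ 8) (K : Subgroup (Equiv.Perm α))
    (hK : K ≤ alternatingGroup α) [Fact (Nat.Prime 7)] (P : Sylow 7 K)
    (hP : Nat.card ↥(P : Subgroup K) = 7) :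
    Nat.card ↥(normalizer ((P : Subgroup K) : Set K)) = 7 ∨ Nat.card ↥(normalizer ((P : Subgroup K) : Set K)) = 21 := by
  classical
  obtain ⟨g₀, hg₀⟩ := (isCyclic_of_prime_card hP).exists_generator
  have hgo : orderOf g₀ = 7 := by rw [orderOf_eq_card_of_forall_mem_zpowers hg₀, hP]
  let g : Equiv.Perm α := ((g₀ : K) : Equiv.Perm α)
  have hgord : orderOf g = 7 := by
    show orderOf ((g₀ : K) : Equiv.Perm α) = 7
    rw [Subgroup.orderOf_coe, Subgroup.orderOf_coe, hgo]
  have hC := (card_centralizer_seven hα hgord).2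
  have hCK : Nat.card (centralizer ((P : Subgroup K) : Set K)) ∣ 7 := by
    suffices hle : (centralizer ((P : Subgroup K) : Set K)).map K.subtype ≤ centralizer ({g} : Set (Equiv.Perm α)) by
      have := card_dvd_of_le hle
      rwa [hC, Subgroup.card_map_of_injective K.subtype_injective] at this
    rintro y ⟨c, hc, rfl⟩
    rw [Subgroup.mem_centralizer_iff]
    intro z hz
    rw [Set.mem_singleton_iff] at hz
    rw [hz]
    exact congrArg Subtype.val (Subgroup.mem_centralizer_iff.mp hc _ g₀.2)
  have hCN : centralizer ((P : Subgroup K) : Set K) ≤ normalizer ((P : Subgroup K) : Set K) :=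
    centralizer_le_normalizer _
  have hPC : (P : Subgroup K) ≤ centralizer ((P : Subgroup K) : Set K) := by
    haveI : IsCyclic ↥(P : Subgroup K) := isCyclic_of_prime_card hP
    haveI : IsMulCommutative ↥(P : Subgroup K) := ⟨⟨fun a b => IsCyclic.commGroup.mul_comm a b⟩⟩
    exact (P : Subgroup K).le_centralizer
  have hC7 : Nat.card (centralizer ((P : Subgroup K) : Set K)) = 7 :=
    Nat.dvd_antisymm hCK (by have := card_dvd_of_le hPC; rwa [hP] at this)
  have hmul := relIndex_mul_relIndex ⊥ _ _ bot_le hCN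
  rw [relIndex_bot_left, relIndex_bot_left, hC7] at hmul
  have he := CfsgLib.SmallGroups.relIndex_centralizer_dvd_pred (P : Subgroup K) hP
  norm_num at he
  have hodd : ¬ 2 ∣ Nat.card ↥(normalizer ((P : Subgroup K) : Set K)) := by
    intro h2
    obtain ⟨t, ht⟩ := exists_prime_orderOf_dvd_card' (G := ↥(normalizer ((P : Subgroup K) : Set K))) 2 h2
    let τ : Equiv.Perm α := ((t : K) : Equiv.Perm α)
    have hτ2 : τ * τ = 1 := by
      have h : t ^ 2 = 1 := by rw [← ht]; exact pow_orderOf_eq_one t
      have h' := congrArg (fun s : ↥(normalizer ((P : Subgroup K) : Set K)) => ((s : K) : Equiv.Perm α)) h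
      simpa [pow_two] using h'
    have htP : (t : K) * (g₀ : K) * (t : K)⁻¹ ∈ (P : Subgroup K) :=
      (Subgroup.mem_normalizer_iff.mp t.2 _).mp g₀.2
    obtain ⟨j, hj⟩ := Subgroup.mem_zpowers_iff.mp (hg₀ ⟨_, htP⟩)
    have hj' : τ * g * τ⁻¹ = g ^ j := by
      have h := congrArg (fun s : ↥(P : Subgroup K) => ((s : K) : Equiv.Perm α)) hj
      simpa using h.symm
    have hjj : g ^ (j * j) = g := by
      rw [zpow_mul, ← hj', conj_zpow, ← hj']
      rw [show τ⁻¹ = τ from inv_eq_of_mul_eq_one_left hτ2]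
      calc τ * (τ * g * τ) * τ = (τ * τ) * g * (τ * τ) := by simp only [mul_assoc]
        _ = g := by rw [hτ2, one_mul, mul_one]
    have hd : (7 : ℤ) ∣ (j - 1) * (j + 1) := by
      have h1 : g ^ ((j - 1) * (j + 1)) = 1 := by
        rw [show (j - 1) * (j + 1) = j * j + (-1) by ring, zpow_add, hjj, zpow_neg_one, mul_inv_cancel]
      rw [← orderOf_dvd_iff_zpow_eq_one, hgord] at h1
      exact_mod_cast h1
    rcases (Int.Prime.dvd_mul' (by norm_num : Nat.Prime 7) hd) with h1 | h1
    · have hgj : g ^ j = g := by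
        have h3 : g ^ (j - 1) = 1 := by rw [← orderOf_dvd_iff_zpow_eq_one, hgord]; exact h1
        rw [show j = (j - 1) + 1 by ring, zpow_add, h3, one_mul, zpow_one]
      -- `τ` centralises `g`
      rw [hgj] at hj'
      have hτC : τ ∈ centralizer ({g} : Set (Equiv.Perm α)) := by
        rw [Subgroup.mem_centralizer_iff]
        intro z hz
        rw [Set.mem_singleton_iff] at hz
        rw [hz]
        exact (mul_inv_eq_iff_eq_mul.mp hj').symm
      have h4 := Subgroup.orderOf_dvd_natCard _ hτC
      rw [hC] at h4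
      have h5 : orderOf τ = 2 := by
        show orderOf ((t : K) : Equiv.Perm α) = 2
        rw [Subgroup.orderOf_coe, Subgroup.orderOf_coe, ht]
      rw [h5] at h4
      norm_num at h4
    · have hgj : g ^ j = g⁻¹ := by
        have h3 : g ^ (j + 1) = 1 := by rw [← orderOf_dvd_iff_zpow_eq_one, hgord]; exact h1
        rw [show j = (j + 1) + (-1) by ring, zpow_add, h3, one_mul, zpow_neg_one]
      exact not_inverts_seven hα hgord hτ2 (hK (t : K).2) (hj'.trans hgj)
  rw [← hmul] at hodd ⊢
  have : ∀ e ∈ Nat.divisors 6, ¬ 2 ∣ 7 * e → 7 * e = 7 ∨ 7 * e = 21 := by decide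
  exact this _ (Nat.mem_divisors.mpr ⟨he, by norm_num⟩) hodd

/-- The possible orders when seven divides the order. -/
theorem order_cases_seven (hα : Fintype.card α ≤ 8) (K : Subgroup (Equiv.Perm α))
    (hK : K ≤ alternatingGroup α) (h : NoSolvNormal K) (h7 : 7 ∣ Nat.card K) (hdvd : Nat.card K ∣ 20160) :
    Nat.card K = 168 ∨ Nat.card K = 315 ∨ Nat.card K = 840 ∨ Nat.card K = 1344 ∨ Nat.card K = 2520 ∨
      Nat.card K = 6720 ∨ Nat.card K = 20160 := by
  haveI : Fact (Nat.Prime 7) := ⟨by norm_num⟩
  haveI : Nontrivial K := Finite.one_lt_card_iff_nontrivial.mp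
    (Nat.lt_of_lt_of_le (by norm_num) (Nat.le_of_dvd Nat.card_pos h7))
  obtain ⟨m, hm⟩ := h7
  have hmd : m ∣ 2880 := by
    rw [hm, show (20160 : ℕ) = 7 * 2880 by norm_num] at hdvd
    exact Nat.dvd_of_mul_dvd_mul_left (by norm_num) hdvd
  have hm7 : ¬ 7 ∣ m := fun h' => by
    have := h'.trans hmd; norm_num at this
  obtain ⟨P⟩ : Nonempty (Sylow 7 K) := inferInstance
  have hP : Nat.card ↥(P : Subgroup K) = 7 := by
    simpa using CfsgLib.SmallGroups.card_sylow_eq (a := 1) (by simpa using hm) hm7 P
  have hmem := card_sylow_mem' (p := 7) hm hm7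
  have hn : Nat.card (Sylow 7 K) ∈ ({1, 8, 15, 36, 64, 120, 288, 960} : Finset ℕ) := by
    rw [← show (Nat.divisors 2880).filter (fun d => d % 7 = 1) = {1, 8, 15, 36, 64, 120, 288, 960} by decide +kernel]
    simp only [Finset.mem_filter, Nat.mem_divisors] at hmem ⊢
    exact ⟨⟨hmem.1.1.trans hmd, by norm_num⟩, hmem.2⟩
  have hsn := CfsgLib.SmallGroups.card_sylow_mul_card_normalizer P
  rcases card_normalizer_seven hα K hK P hP with hN | hN
  · -- normal complement
    rw [hN, hm, mul_comm] at hsn
    have hnm : Nat.card (Sylow 7 K) = m := Nat.eq_of_mul_eq_mul_left (by norm_num) hsn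
    rw [hnm] at hn
    have two : ∀ p q a b : ℕ, p.Prime → q.Prime → m ∣ p ^ a * q ^ b → False := fun p q a b hp hq hd => by
      rcases eq_or_ne m 1 with h1 | h1
      · exact h.not_solvable (isSolvable_of_two_primes 7 2 1 0 (by norm_num) Nat.prime_two hm (by rw [h1]; norm_num))
      exact h.false_of_coprime hm hm7 h1 P (by rw [hN]; norm_num)
        fun M hM => isSolvable_of_two_primes p q a b hp hq hM hd
    simp only [Finset.mem_insert, Finset.mem_singleton] at hn
    rcases hn with rfl | rfl | rfl | rfl | rfl | rfl | rfl | rfl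
    · exact (two 2 3 0 0 Nat.prime_two Nat.prime_three (by norm_num)).elim
    · exact (two 2 3 3 0 Nat.prime_two Nat.prime_three (by norm_num)).elim
    · exact (two 3 5 1 1 Nat.prime_three (by norm_num) (by norm_num)).elim
    · exact (two 2 3 2 2 Nat.prime_two Nat.prime_three (by norm_num)).elim
    · exact (two 2 3 6 0 Nat.prime_two Nat.prime_three (by norm_num)).elim
    · omega
    · exact (two 2 3 5 2 Nat.prime_two Nat.prime_three (by norm_num)).elim
    · omega
  · rw [hN] at hsn
    simp only [Finset.mem_insert, Finset.mem_singleton] at hn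
    rw [← hsn] at hdvd ⊢
    rcases hn with hn | hn | hn | hn | hn | hn | hn | hn <;> rw [hn] at hdvd ⊢ <;> (try norm_num at hdvd) <;> (try norm_num)
    exact absurd (isSolvable_of_two_primes 3 7 1 1 Nat.prime_three (by norm_num) (n := 21)
      (by rw [← hsn, hn]) (by norm_num)) h.not_solvable

end Seven

/-- Degree seven. -/
theorem degree_seven (K : Subgroup (Equiv.Perm (Fin 7))) (hK : K ≤ alternatingGroup (Fin 7))
    (h : NoSolvNormal K) (h7 : 7 ∣ Nat.card K) :
    Nonempty (K ≃* alternatingGroup (Fin 7)) ∨ Nonempty (K ≃* GL (Fin 3) (ZMod 2)) := by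
  haveI : Nontrivial K := Finite.one_lt_card_iff_nontrivial.mp
    (Nat.lt_of_lt_of_le (by norm_num) (Nat.le_of_dvd Nat.card_pos h7))
  have hA : Nat.card (alternatingGroup (Fin 7)) = 2520 := by
    have := card_alt (n := 7) (by norm_num)
    simp only [Nat.factorial] at this
    omega
  have hd : Nat.card K ∣ 2520 := hA ▸ card_dvd_of_le hK
  rcases order_cases_seven (by simp) K hK h h7 (hd.trans (by norm_num)) with hc | hc | hc | hc | hc | hc | hc
  · exact Or.inr (iso_GL3 h hc)
  · exfalso
    haveI : Fact (Nat.Prime 5) := ⟨by norm_num⟩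
    obtain ⟨P⟩ : Nonempty (Sylow 5 K) := inferInstance
    refine h.false_of_coprime (p := 5) (m := 63) hc (by norm_num) (by norm_num) P ?_
      fun M hM => isSolvable_of_two_primes 3 7 2 1 Nat.prime_three (by norm_num) hM (by norm_num)
    exact Nat.Coprime.coprime_dvd_left (card_subgroup_dvd_card _) (by rw [hc]; norm_num)
  · exfalso
    haveI : IsSimpleGroup (alternatingGroup (Fin 7)) := alternatingGroup.isSimpleGroup (by simp)
    have hc' : Nat.card (K.subgroupOf (alternatingGroup (Fin 7))) = 840 := by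
      rw [Nat.card_congr (Subgroup.subgroupOfEquivOfLe hK).toEquiv, hc]
    have hm := (K.subgroupOf (alternatingGroup (Fin 7))).card_mul_index
    rw [hA, hc'] at hm
    have hdvd := CfsgLib.SmallGroups.two_mul_card_dvd_factorial_index
      (CfsgLib.SmallGroups.not_isMulCommutative_of_card_eq hA (by norm_num))
      (H := K.subgroupOf (alternatingGroup (Fin 7))) fun ht => by rw [ht, index_top] at hm; norm_num at hm
    rw [hA, show (K.subgroupOf (alternatingGroup (Fin 7))).index = 3 by omega] at hdvd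
    norm_num [Nat.factorial] at hdvd
  · rw [hc] at hd; norm_num at hd
  · left
    obtain rfl : K = alternatingGroup (Fin 7) := eq_of_le_of_card_ge hK (by rw [hA, hc])
    exact ⟨MulEquiv.refl _⟩
  · rw [hc] at hd; norm_num at hd
  · rw [hc] at hd; norm_num at hd

/-- Transitive of degree eight, with order prime to seven: impossible. -/
theorem seven_dvd_of_five (K : Subgroup (Equiv.Perm (Fin 8))) [MulAction.IsPretransitive K (Fin 8)]
    (h5 : 5 ∣ Nat.card K) : 7 ∣ Nat.card K := by
  classical
  haveI : Fact (Nat.Prime 5) := ⟨by norm_num⟩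
  obtain ⟨g, hg⟩ := exists_prime_orderOf_dvd_card' (G := K) 5 h5
  have hg' : orderOf (g : Equiv.Perm (Fin 8)) = 5 := by rw [Subgroup.orderOf_coe, hg]
  obtain ⟨k, hk⟩ := Equiv.Perm.cycleType_prime_order (hg' ▸ (by norm_num : Nat.Prime 5))
  have hsum := Equiv.Perm.sum_cycleType (g : Equiv.Perm (Fin 8))
  have hle : (g : Equiv.Perm (Fin 8)).support.card ≤ 8 := (Finset.card_le_univ _).trans (by simp)
  rw [hk, hg', Multiset.sum_replicate, smul_eq_mul] at hsum
  have hF3 : (g : Equiv.Perm (Fin 8)).supportᶜ.card = 3 := by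
    rw [Finset.card_compl, Fintype.card_fin]; omega
  have hfix : ∀ (k : K) (x : Fin 8), x ∈ ((k * g * k⁻¹ : K) : Equiv.Perm (Fin 8)).supportᶜ ↔
      ((k * g * k⁻¹ : K) • x = x) := fun k x => by
    rw [Finset.mem_compl, Equiv.Perm.notMem_support]; rfl
  let orb : Fin 8 → Fin 8 → Finset (Fin 8) := fun x y =>
    (Finset.univ.filter fun z => z ∈ MulAction.orbit (MulAction.stabilizer K x) y)
  let R : Fin 8 → Fin 8 → Prop := fun x y => (orb x y).card < 5
  -- a conjugate of `g` fixing `x` fixes everything related to `x`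
  have hfixR : ∀ (c : K), orderOf c = 5 → ∀ x y, c • x = x → R x y → c • y = y := by
    intro c hc x y hx hy
    by_contra hne
    have hsub : MulAction.orbit (zpowers c) y ⊆ MulAction.orbit (MulAction.stabilizer K x) y := by
      rintro z ⟨⟨d, hd⟩, rfl⟩
      exact ⟨⟨d, (zpowers_le.mpr (hx : c ∈ MulAction.stabilizer K x)) hd⟩, rfl⟩
    have h1 := MulAction.card_orbit_mul_card_stabilizer_eq_card_group (zpowers c) y
    simp only [Fintype.card_eq_nat_card] at h1
    rw [Nat.card_zpowers, hc] at h1
    rcases (Nat.dvd_prime (by norm_num : Nat.Prime 5)).mp (Dvd.intro _ h1) with h2 | h2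
    · have h3 : Subsingleton (MulAction.orbit (zpowers c) y) := (Nat.card_eq_one_iff_unique.mp h2).1
      exact hne (congrArg Subtype.val (Subsingleton.elim
        (⟨c • y, ⟨⟨c, mem_zpowers c⟩, rfl⟩⟩ : MulAction.orbit (zpowers c) y) ⟨y, MulAction.mem_orbit_self y⟩))
    · have h3 : Nat.card (MulAction.orbit (zpowers c) y) ≤ (orb x y).card := by
        rw [Nat.card_eq_fintype_card, ← Set.toFinset_card]
        exact Finset.card_le_card fun z hz => Finset.mem_filter.mpr ⟨Finset.mem_univ _, hsub (Set.mem_toFinset.mp hz)⟩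
      have : (orb x y).card < 5 := hy
      omega
  have hrefl : ∀ x, R x x := fun x => by
    show (orb x x).card < 5
    have : orb x x ⊆ {x} := fun z hz => by
      obtain ⟨⟨d, hd⟩, rfl⟩ := (Finset.mem_filter.mp hz).2
      exact Finset.mem_singleton.mpr hd
    exact lt_of_le_of_lt (Finset.card_le_card this) (by simp)
  have hequiv : ∀ (k : K) x y, R x y → R (k • x) (k • y) := by
    intro k x y hxy
    show (orb (k • x) (k • y)).card < 5
    refine lt_of_le_of_lt ?_ (hxy : (orb x y).card < 5)
    refine le_trans (Finset.card_le_card ?_) (Finset.card_image_le (f := fun z => k • z))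
    intro z hz
    obtain ⟨⟨d, hd⟩, rfl⟩ := (Finset.mem_filter.mp hz).2
    refine Finset.mem_image.mpr ⟨(k⁻¹ * d * k) • y, Finset.mem_filter.mpr ⟨Finset.mem_univ _, ⟨⟨k⁻¹ * d * k, ?_⟩, rfl⟩⟩, ?_⟩
    · show (k⁻¹ * d * k) • x = x
      rw [mul_smul, mul_smul, (hd : d • k • x = k • x), inv_smul_smul]
    · show k • (k⁻¹ * d * k) • y = d • k • y
      rw [mul_smul, mul_smul, smul_inv_smul]
  have horbcard : ∀ x y, (orb x y).card * Nat.card {k : K // k • x = x ∧ k • y = y} = Nat.card (MulAction.stabilizer K x) := by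
    intro x y
    have h1 := MulAction.card_orbit_mul_card_stabilizer_eq_card_group (MulAction.stabilizer K x) y
    simp only [Fintype.card_eq_nat_card] at h1
    rw [← h1]
    congr 1
    · rw [Nat.card_eq_fintype_card, ← Set.toFinset_card]
      congr 1
      ext z
      simp [orb]
    · exact Nat.card_congr ⟨fun k => ⟨⟨k.1, k.2.1⟩, k.2.2⟩, fun k => ⟨k.1.1, k.1.2, k.2⟩, fun _ => rfl, fun _ => rfl⟩
  have hsymm : ∀ x y, R x y → R y x := by
    intro x y hxy
    have h1 := horbcard x y
    have h2 := horbcard y x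
    have h3 : Nat.card (MulAction.stabilizer K x) = Nat.card (MulAction.stabilizer K y) := by
      obtain ⟨k, rfl⟩ := MulAction.exists_smul_eq K x y
      exact Nat.card_congr (MulAction.stabilizerEquivStabilizer (g := k) rfl).toEquiv
    have h4 : Nat.card {k : K // k • x = x ∧ k • y = y} = Nat.card {k : K // k • y = y ∧ k • x = x} :=
      Nat.card_congr (Equiv.subtypeEquivRight fun k => and_comm)
    rw [← h3, ← h1, ← h4] at h2
    haveI : Nonempty {k : K // k • x = x ∧ k • y = y} := ⟨⟨1, one_smul _ _, one_smul _ _⟩⟩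
    show (orb y x).card < 5
    rw [Nat.eq_of_mul_eq_mul_right Nat.card_pos h2]
    exact hxy
  let cls : Fin 8 → Finset (Fin 8) := fun x => Finset.univ.filter (R x)
  have hcls : ∀ x y, (cls x).card = (cls y).card := by
    intro x y
    have key : ∀ x y, (cls x).card ≤ (cls y).card := fun x y => by
      obtain ⟨k, rfl⟩ := MulAction.exists_smul_eq K x y
      rw [← Finset.card_image_of_injective (cls x) (MulAction.injective k)]
      refine Finset.card_le_card fun z hz => ?_
      obtain ⟨w, hw, rfl⟩ := Finset.mem_image.mp hz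
      exact Finset.mem_filter.mpr ⟨Finset.mem_univ _, hequiv k x w (Finset.mem_filter.mp hw).2⟩
    exact le_antisymm (key x y) (key y x)
  have hfixing : ∀ x : Fin 8, ∃ c : K, orderOf c = 5 ∧ c • x = x ∧ ((c : Equiv.Perm (Fin 8))).supportᶜ.card = 3 := by
    intro x
    obtain ⟨x₀, hx₀⟩ := Finset.card_pos.mp (by rw [hF3]; norm_num : 0 < (g : Equiv.Perm (Fin 8)).supportᶜ.card)
    obtain ⟨k, hk⟩ := MulAction.exists_smul_eq K x₀ x
    refine ⟨k * g * k⁻¹, ?_, ?_, ?_⟩
    · rw [← hg]
      exact (MulAut.conj k).orderOf_eq g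
    · rw [← hk, mul_smul, mul_smul, inv_smul_smul]
      congr 1
      exact Equiv.Perm.notMem_support.mp (Finset.mem_compl.mp hx₀)
    · rw [Finset.card_compl, show ((k * g * k⁻¹ : K) : Equiv.Perm (Fin 8)) = (k : Equiv.Perm (Fin 8)) * g * (k : Equiv.Perm (Fin 8))⁻¹ from rfl,
        Equiv.Perm.card_support_conj, ← Finset.card_compl, hF3]
  have hclsfix : ∀ (c : K), orderOf c = 5 → ∀ x, c • x = x → cls x ⊆ (c : Equiv.Perm (Fin 8)).supportᶜ := fun c hc x hx y hy => by
    rw [Finset.mem_compl, Equiv.Perm.notMem_support]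
    exact hfixR c hc x y hx (Finset.mem_filter.mp hy).2
  have htrans : ∀ x y z, R x y → R y z → R x z := by
    intro x y z hxy hyz
    by_contra hxz
    obtain ⟨c, hc, hcx, hc3⟩ := hfixing x
    have hcy : c • y = y := hfixR c hc x y hcx hxy
    have hyx : x ≠ y := fun e => hxz (e ▸ hyz)
    have hzy : z ≠ y := fun e => hxz (e ▸ hxy)
    have hzx : z ≠ x := fun e => hxz (e ▸ hrefl x)
    have hsub1 : cls x ⊆ (c : Equiv.Perm (Fin 8)).supportᶜ.erase z := fun w hw =>
      Finset.mem_erase.mpr ⟨fun e => hxz (e ▸ (Finset.mem_filter.mp hw).2), hclsfix c hc x hcx hw⟩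
    have hzc : z ∈ (c : Equiv.Perm (Fin 8)).supportᶜ :=
      hclsfix c hc y hcy (Finset.mem_filter.mpr ⟨Finset.mem_univ _, hyz⟩)
    have h1 := Finset.card_le_card hsub1
    rw [Finset.card_erase_of_mem hzc, hc3] at h1
    have hsub2 : ({x, y, z} : Finset (Fin 8)) ⊆ cls y := by
      intro w hw
      simp only [Finset.mem_insert, Finset.mem_singleton] at hw
      refine Finset.mem_filter.mpr ⟨Finset.mem_univ _, ?_⟩
      rcases hw with rfl | rfl | rfl
      · exact hsymm _ _ hxy
      · exact hrefl _
      · exact hyz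
    have h2 := Finset.card_le_card hsub2
    rw [Finset.card_eq_three.mpr ⟨x, y, z, hyx, hzx.symm, hzy.symm, rfl⟩, ← hcls x y] at h2
    omega
  let S : Setoid (Fin 8) := ⟨R, ⟨hrefl, fun {a b} => hsymm a b, fun {a b c} => htrans a b c⟩⟩
  obtain ⟨x₁, hx₁⟩ := Finset.card_pos.mp (by rw [hF3]; norm_num : 0 < (g : Equiv.Perm (Fin 8)).supportᶜ.card)
  have hgx : g • x₁ = x₁ := Equiv.Perm.notMem_support.mp (Finset.mem_compl.mp hx₁)
  -- the classes have a common size dividing 8 and 3
  have hdiv : ∀ T : Finset (Fin 8), (∀ x ∈ T, cls x ⊆ T) → (cls x₁).card ∣ T.card := by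
    intro T hT
    induction T using Finset.strongInduction with
    | _ T ih =>
      rcases T.eq_empty_or_nonempty with rfl | ⟨w, hw⟩
      · simp
      have hsub := hT w hw
      have hwm : w ∈ cls w := Finset.mem_filter.mpr ⟨Finset.mem_univ _, hrefl w⟩
      have hlt : T \ cls w ⊂ T := Finset.sdiff_ssubset hsub ⟨w, hwm⟩
      have := ih _ hlt fun x hx y hy => by
        rw [Finset.mem_sdiff] at hx ⊢
        refine ⟨hT x hx.1 hy, fun hyw => hx.2 (Finset.mem_filter.mpr ⟨Finset.mem_univ _, ?_⟩)⟩
        exact htrans w y x (Finset.mem_filter.mp hyw).2 (hsymm _ _ (Finset.mem_filter.mp hy).2)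
      rw [← Finset.sdiff_union_of_subset hsub, Finset.card_union_of_disjoint Finset.sdiff_disjoint, hcls w x₁]
      exact dvd_add this dvd_rfl
  have hd3 : (cls x₁).card ∣ 3 := hF3 ▸ hdiv _ fun x hx =>
    hclsfix g hg x (Equiv.Perm.notMem_support.mp (Finset.mem_compl.mp hx))
  have hd8 : (cls x₁).card ∣ 8 := by
    have := hdiv Finset.univ fun x _ => Finset.subset_univ _
    simpa using this
  have h1 : (cls x₁).card = 1 := Nat.eq_one_of_dvd_coprimes (by norm_num : Nat.Coprime 3 8) hd3 hd8
  have hbig : ∀ y, y ≠ x₁ → 5 ≤ (orb x₁ y).card := fun y hy => by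
    by_contra hlt
    exact hy (Finset.card_le_one.mp h1.le _ (Finset.mem_filter.mpr ⟨Finset.mem_univ _, not_le.mp hlt⟩) _
      (Finset.mem_filter.mpr ⟨Finset.mem_univ _, hrefl x₁⟩))
  obtain ⟨y, hy⟩ := exists_ne x₁
  have hall : orb x₁ y = Finset.univ.erase x₁ := by
    have hnot : ∀ w, w ≠ x₁ → x₁ ∉ orb x₁ w := fun w hw hmem => by
      obtain ⟨⟨d, hd⟩, hdw⟩ := (Finset.mem_filter.mp hmem).2
      exact hw (MulAction.injective d ((hdw : d • w = x₁).trans (hd : d • x₁ = x₁).symm))
    refine Finset.Subset.antisymm (fun z hz => Finset.mem_erase.mpr ⟨fun e => hnot y hy (e ▸ hz), Finset.mem_univ _⟩) ?_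
    intro z hz
    have hz' := (Finset.mem_erase.mp hz).1
    by_contra hzn
    have hdis : Disjoint (orb x₁ y) (orb x₁ z) := by
      rw [Finset.disjoint_left]
      intro w hw1 hw2
      refine hzn (Finset.mem_filter.mpr ⟨Finset.mem_univ _, ?_⟩)
      rw [← MulAction.orbit_eq_iff.mpr (Finset.mem_filter.mp hw1).2, MulAction.orbit_eq_iff.mpr (Finset.mem_filter.mp hw2).2]
      exact MulAction.mem_orbit_self z
    have h4 := Finset.card_le_univ (orb x₁ y ∪ orb x₁ z)
    rw [Finset.card_union_of_disjoint hdis, Fintype.card_fin] at h4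
    have := hbig y hy
    have := hbig z hz'
    omega
  have h7 := horbcard x₁ y
  rw [hall, Finset.card_erase_of_mem (Finset.mem_univ _), Finset.card_univ, Fintype.card_fin] at h7
  exact (Dvd.intro _ h7).trans (card_subgroup_dvd_card _)

/-- An element of order seven has no fixed elements of order five under conjugation on eight points. -/
theorem not_normalizes_five {α : Type*} [Fintype α] [DecidableEq α] (hα : Fintype.card α ≤ 8)
    {g : Equiv.Perm α} (hg : orderOf g = 7) (Q : Subgroup (Equiv.Perm α)) (hQ : Nat.card Q = 5)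
    (hn : g ∈ normalizer (Q : Set (Equiv.Perm α))) : False := by
  haveI : Fact (Nat.Prime 5) := ⟨by norm_num⟩
  have hd := CfsgLib.SmallGroups.relIndex_centralizer_dvd_pred Q hQ
  have hg4 : g ∈ centralizer (Q : Set (Equiv.Perm α)) := by
    haveI : ((centralizer (Q : Set (Equiv.Perm α))).subgroupOf (normalizer (Q : Set (Equiv.Perm α)))).Normal := by
      rw [← normalizerMonoidHom_ker]; exact MonoidHom.normal_ker _
    let gb := (QuotientGroup.mk' ((centralizer (Q : Set (Equiv.Perm α))).subgroupOf (normalizer (Q : Set (Equiv.Perm α))))) ⟨g, hn⟩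
    have h2 : orderOf gb ∣ 7 := by
      refine (orderOf_map_dvd _ _).trans ?_
      rw [← Subgroup.orderOf_coe, ← hg]
    have h3 : orderOf gb ∣ 4 := (orderOf_dvd_natCard gb).trans hd
    have h4 := Nat.eq_one_of_dvd_coprimes (by norm_num : Nat.Coprime 7 4) h2 h3
    rw [orderOf_eq_one_iff] at h4
    exact (QuotientGroup.eq_one_iff (N := (centralizer (Q : Set (Equiv.Perm α))).subgroupOf (normalizer (Q : Set (Equiv.Perm α)))) _).mp h4
  have hle : Q ≤ centralizer ({g} : Set (Equiv.Perm α)) := fun q hq => by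
    rw [Subgroup.mem_centralizer_iff]
    intro z hz
    rw [Set.mem_singleton_iff] at hz
    rw [hz]
    exact (Subgroup.mem_centralizer_iff.mp hg4 q hq).symm
  have h5 := card_dvd_of_le hle
  rw [hQ, (card_centralizer_seven hα hg).2] at h5
  norm_num at h5

/-- Transitive of degree eight. -/
theorem degree_eight (K : Subgroup (Equiv.Perm (Fin 8))) [MulAction.IsPretransitive K (Fin 8)]
    (hK : K ≤ alternatingGroup (Fin 8)) (h : NoSolvNormal K) (h1344 : Nat.card K ≠ 1344) :
    Nonempty (K ≃* alternatingGroup (Fin 8)) ∨ Nonempty (K ≃* alternatingGroup (Fin 7)) ∨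
      Nonempty (K ≃* GL (Fin 3) (ZMod 2)) := by
  classical
  haveI : Fact (Nat.Prime 7) := ⟨by norm_num⟩
  have h8 : 8 ∣ Nat.card K := by
    have := MulAction.card_orbit_mul_card_stabilizer_eq_card_group K (0 : Fin 8)
    simp only [Fintype.card_eq_nat_card] at this
    rw [MulAction.orbit_eq_univ, Nat.card_congr (Equiv.Set.univ _), Nat.card_fin] at this
    exact ⟨_, this.symm⟩
  haveI : Nontrivial K := Finite.one_lt_card_iff_nontrivial.mp
    (Nat.lt_of_lt_of_le (by norm_num) (Nat.le_of_dvd Nat.card_pos h8))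
  have hA : Nat.card (alternatingGroup (Fin 8)) = 20160 := by
    have := card_alt (n := 8) (by norm_num)
    simp only [Nat.factorial] at this
    omega
  have hd : Nat.card K ∣ 20160 := hA ▸ card_dvd_of_le hK
  have h7 : 7 ∣ Nat.card K := by
    by_contra h7
    by_cases h5 : 5 ∣ Nat.card K
    · exact h7 (seven_dvd_of_five K h5)
    have c7 : (Nat.card K).Coprime 7 := ((by norm_num : Nat.Prime 7).coprime_iff_not_dvd.mpr h7).symm
    have c5 : (Nat.card K).Coprime 5 := ((by norm_num : Nat.Prime 5).coprime_iff_not_dvd.mpr h5).symm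
    have hd2 : Nat.card K ∣ 2 ^ 6 * 3 ^ 2 :=
      c5.dvd_of_dvd_mul_right (c7.dvd_of_dvd_mul_right (by norm_num [mul_assoc] at hd ⊢; exact hd))
    exact h.not_solvable (isSolvable_of_two_primes 2 3 6 2 Nat.prime_two Nat.prime_three rfl hd2)
  have small : ∀ i : ℕ, i ≤ 4 → i ≠ 1 → Nat.card K * i = 20160 → False := by
    intro i hi hi1 hmul
    haveI : IsSimpleGroup (alternatingGroup (Fin 8)) := alternatingGroup.isSimpleGroup (by simp)
    have hm := (K.subgroupOf (alternatingGroup (Fin 8))).card_mul_index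
    rw [hA, Nat.card_congr (Subgroup.subgroupOfEquivOfLe hK).toEquiv, ← hmul] at hm
    have hidx := Nat.eq_of_mul_eq_mul_left Nat.card_pos hm
    have hne : K.subgroupOf (alternatingGroup (Fin 8)) ≠ ⊤ := fun ht => by
      rw [ht, index_top] at hidx; exact hi1 hidx.symm
    have := CfsgLib.SmallGroups.index_gt
      (CfsgLib.SmallGroups.not_isMulCommutative_of_card_eq hA (by norm_num)) hne
      (k := 4) (by rw [hA]; norm_num [Nat.factorial])
    omega
  rcases order_cases_seven (by simp) K hK h h7 hd with hc | hc | hc | hc | hc | hc | hc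
  · exact Or.inr (Or.inr (iso_GL3 h hc))
  · rw [hc] at h8; norm_num at h8
  · -- order 840: the normal complement has at most six Sylow 5-subgroups
    exfalso
    haveI : Fact (Nat.Prime 5) := ⟨by norm_num⟩
    obtain ⟨P⟩ : Nonempty (Sylow 7 K) := inferInstance
    obtain ⟨g, hg⟩ := exists_prime_orderOf_dvd_card' (G := K) 7 h7
    have hgo : orderOf (g : Equiv.Perm (Fin 8)) = 7 := by rw [Subgroup.orderOf_coe, hg]
    have hn5 := card_sylow_mem' (p := 5) (G := K) (m := 168) hc (by norm_num)
    rw [show Finset.filter (fun d => d % 5 = 1) (Nat.divisors 168) = {1, 6, 21, 56} by decide +kernel] at hn5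
    have hN7 : Nat.card ↥(normalizer ((P : Subgroup K) : Set K)) = 7 := by
      have hP : Nat.card ↥(P : Subgroup K) = 7 := by
        simpa using CfsgLib.SmallGroups.card_sylow_eq (a := 1) (m := 120) (by simpa using hc) (by norm_num) P
      rcases card_normalizer_seven (by simp) K hK P hP with e | e
      · exact e
      · exfalso
        have h1 := CfsgLib.SmallGroups.card_sylow_mul_card_normalizer P
        have h2 := card_sylow_mem' (p := 7) (G := K) (m := 120) hc (by norm_num)
        rw [e, hc] at h1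
        rw [Finset.mem_filter, show Nat.card (Sylow 7 K) = 40 by omega] at h2
        norm_num at h2
    have hP7 : Nat.card ↥(P : Subgroup K) = 7 := by
      simpa using CfsgLib.SmallGroups.card_sylow_eq (a := 1) (m := 120) (by simpa using hc) (by norm_num) P
    have hPN : normalizer ((P : Subgroup K) : Set K) ≤ centralizer ((P : Subgroup K) : Set K) := by
      haveI : IsCyclic ↥(P : Subgroup K) := isCyclic_of_prime_card hP7
      haveI : IsMulCommutative ↥(P : Subgroup K) := ⟨⟨fun a b => IsCyclic.commGroup.mul_comm a b⟩⟩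
      have : normalizer ((P : Subgroup K) : Set K) = (P : Subgroup K) :=
        (eq_of_le_of_card_ge le_normalizer (by rw [hN7, hP7])).symm
      rw [this]
      exact (P : Subgroup K).le_centralizer
    have hc' := MonoidHom.ker_transferSylow_isComplement' P hPN
    set M := (MonoidHom.transferSylow P hPN).ker with hM
    haveI : M.Normal := MonoidHom.normal_ker _
    have hMc : Nat.card M = 120 := by
      have := hc'.card_mul
      rw [hP7, hc] at this
      omega
    have hm5 := card_sylow_mem' (p := 5) (G := M) (m := 24) hMc (by norm_num)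
    have hle6 : Nat.card (Sylow 5 M) ≤ 6 := by
      rw [show Finset.filter (fun d => d % 5 = 1) (Nat.divisors 24) = {1, 6} by decide] at hm5
      simp only [Finset.mem_insert, Finset.mem_singleton] at hm5
      omega
    let a : MulAut M := MulAut.conjNormal g
    obtain ⟨Q⟩ : Nonempty (Sylow 5 M) := inferInstance
    have haQ : a • Q = Q := by
      have h1 := MulAction.card_orbit_mul_card_stabilizer_eq_card_group (zpowers a) Q
      simp only [Fintype.card_eq_nat_card] at h1
      have h2 : Nat.card (zpowers a) ∣ 7 := by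
        rw [Nat.card_zpowers]
        exact hg ▸ orderOf_map_dvd (MulAut.conjNormal (H := M)) g
      have h3 : Nat.card (MulAction.orbit (zpowers a) Q) ∣ 7 := (Dvd.intro _ h1).trans h2
      rcases (Nat.dvd_prime (by norm_num : Nat.Prime 7)).mp h3 with h4 | h4
      · have h5 : Subsingleton (MulAction.orbit (zpowers a) Q) := (Nat.card_eq_one_iff_unique.mp h4).1
        exact congrArg Subtype.val (Subsingleton.elim
          (⟨a • Q, ⟨⟨a, mem_zpowers a⟩, rfl⟩⟩ : MulAction.orbit (zpowers a) Q) ⟨Q, MulAction.mem_orbit_self Q⟩)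
      · have h5 : Nat.card (MulAction.orbit (zpowers a) Q) ≤ Nat.card (Sylow 5 M) := Finite.card_subtype_le _
        omega
    have hQc : Nat.card ↥(Q : Subgroup M) = 5 := by
      simpa using CfsgLib.SmallGroups.card_sylow_eq (a := 1) (m := 24) (by simpa using hMc) (by norm_num) Q
    let Q' : Subgroup (Equiv.Perm (Fin 8)) := ((Q : Subgroup M).map M.subtype).map K.subtype
    have hQ' : Nat.card Q' = 5 := by
      rw [← Nat.card_congr (((Q : Subgroup M).map M.subtype).equivMapOfInjective K.subtype K.subtype_injective).toEquiv,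
        ← Nat.card_congr ((Q : Subgroup M).equivMapOfInjective M.subtype M.subtype_injective).toEquiv, hQc]
    refine not_normalizes_five (by simp) hgo Q' hQ' ?_
    have hmaps : ∀ q ∈ (Q : Subgroup M), a q ∈ (Q : Subgroup M) := fun q hq => by
      have h1 : a q ∈ ((a • Q : Sylow 5 M) : Subgroup M) := ⟨q, hq, rfl⟩
      rwa [haQ] at h1
    refine Subgroup.mem_normalizer_iff_map_conj_eq.mpr
      (eq_of_le_of_card_ge ?_ (le_of_eq (Subgroup.card_map_of_injective (MulAut.conj _).injective).symm))
    rintro y ⟨-, ⟨u, ⟨q, hq, rfl⟩, rfl⟩, rfl⟩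
    exact ⟨_, ⟨a q, hmaps q hq, rfl⟩, by simp [a, MulAut.conjNormal_apply]⟩
  · exact absurd hc h1344
  · right; left
    have hm := (K.subgroupOf (alternatingGroup (Fin 8))).card_mul_index
    rw [hA, Nat.card_congr (Subgroup.subgroupOfEquivOfLe hK).toEquiv, hc] at hm
    obtain ⟨e⟩ := iso_alt_of_index (n := 7) (by norm_num) (K.subgroupOf (alternatingGroup (Fin 8))) (by omega)
    exact ⟨(Subgroup.subgroupOfEquivOfLe hK).symm.trans e⟩
  · exact (small 3 (by norm_num) (by norm_num) (by rw [hc])).elim
  · left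
    obtain rfl : K = alternatingGroup (Fin 8) := eq_of_le_of_card_ge hK (by rw [hA, hc])
    exact ⟨MulEquiv.refl _⟩

end CfsgLib.Generators.SmallPermGroups
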